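import Cfsg.Agent.H664.R1.Four
import Cfsg.Agent.H664.R1.RankDeg
import Cfsg.Agent.LieClassical.HermPerfect

/-!
# The degrees `q² - q + 1` and `q (q² - q + 1)` of `PSU(3,q)` (helper664)
-/

set_option autoImplicit false
set_option linter.unusedSimpArgs false
set_option linter.unusedSectionVars false

namespace Cfsg.Agent.H664.R1.U3

open Matrix Cfsg Cfsg.Agent.LieRecognition.PSUThreeSylow Cfsg.Agent.LieClassical.HermBasic
open Cfsg.Agent.H681.DegBasic
open scoped ComplexConjugate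

section sum_two

open Cfsg.Agent.Characters.Core

universe u

variable {G : Type u} [Group G] [Fintype G]

theorem norm_ne_zero {α : G → ℂ} (hα : IsCharacter G α) (h0 : α 1 ≠ 0) : classInner α α ≠ 0 := by
  classical
  have := finite_irr (G := G)
  have := Fintype.ofFinite (IrrCharacter G)
  obtain ⟨m, rfl⟩ := exists_nat_comb hα
  intro h
  rw [norm_eq_sum] at h
  have h1 : ∑ ψ : IrrCharacter G, m ψ ^ 2 = 0 := by exact_mod_cast h
  apply h0
  rw [Finset.sum_apply]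
  refine Finset.sum_eq_zero fun ψ hψ => ?_
  have := (Finset.sum_eq_zero_iff.1 h1) ψ hψ
  rw [pow_eq_zero_iff (by norm_num)] at this
  rw [this, zero_smul, Pi.zero_apply]

/-- Two characters whose sum has norm two are irreducible. -/
theorem irr_of_sum_two {α β : G → ℂ} (hα : IsCharacter G α) (hβ : IsCharacter G β)
    (hα0 : α 1 ≠ 0) (hβ0 : β 1 ≠ 0) (h : classInner (α + β) (α + β) = 2) :
    IsIrrCharacter G α ∧ IsIrrCharacter G β := by
  obtain ⟨a, ha⟩ := classInner_isNat hα hα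
  obtain ⟨b, hb⟩ := classInner_isNat hβ hβ
  obtain ⟨c, hc⟩ := classInner_isNat hα hβ
  have hc' : classInner β α = c := by
    rw [← classInner_conj_symm, hc, Complex.conj_natCast]
  have ha0 : a ≠ 0 := by
    intro h0
    exact norm_ne_zero hα hα0 (by rw [ha, h0, Nat.cast_zero])
  have hb0 : b ≠ 0 := by
    intro h0
    exact norm_ne_zero hβ hβ0 (by rw [hb, h0, Nat.cast_zero])
  have h1 : classInner (α + β) (α + β) = ((a + c + (c + b) : ℕ) : ℂ) := by
    rw [classInner_add_left]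
    have e1 : classInner α (α + β) = a + c := by
      rw [← classInner_conj_symm, classInner_add_left, map_add, classInner_conj_symm,
        classInner_conj_symm, ha, hc]
    have e2 : classInner β (α + β) = c + b := by
      rw [← classInner_conj_symm, classInner_add_left, map_add, classInner_conj_symm,
        classInner_conj_symm, hb, hc']
    rw [e1, e2]
    push_cast
    ring
  rw [h1] at h
  have h2 : a + c + (c + b) = 2 := by exact_mod_cast h
  have ha1 : a = 1 := by omega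
  have hb1 : b = 1 := by omega
  exact ⟨isIrr_of_classInner_self hα (by rw [ha, ha1, Nat.cast_one]),
    isIrr_of_classInner_self hβ (by rw [hb, hb1, Nat.cast_one])⟩

end sum_two

section general

variable {F : Type*} [Field F] {σ : F →+* F} [hσ : Fact (∀ x, σ (σ x) = x)]

/-- Elements of the root group. -/
theorem exists_unX {x : PG σ} (hx : x ∈ XP σ) :
    ∃ (b : F) (h : b + σ b + (0 : F) * σ 0 = 0), x = pr σ (un 0 b h) := by
  obtain ⟨u, ⟨hu, hu0⟩, hux⟩ := hx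
  obtain ⟨a, b, h, rfl⟩ := exists_un hu
  rw [mat_un] at hu0
  have ha : a = 0 := by simpa using hu0
  subst ha
  exact ⟨b, h, hux.symm⟩

/-- The root group is central in the unipotent radical. -/
theorem cen {x : PG σ} (hx : x ∈ XP σ) {u : PG σ} (hu : u ∈ (spP σ).U) : u * x = x * u := by
  obtain ⟨b, h, rfl⟩ := exists_unX hx
  obtain ⟨u, hu, rfl⟩ := hu
  obtain ⟨a', b', h', rfl⟩ := exists_un hu
  rw [← map_mul, ← map_mul]
  congr 1
  apply mat_inj
  rw [mat_mul, mat_mul, mat_un, mat_un]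
  ext i j
  fin_cases i <;> fin_cases j <;>
    simp [Matrix.mul_apply, Fin.sum_univ_three, add_comm]

theorem nX [Fintype F] {b : PG σ} (hb : b ∈ (spP σ).B) {x : PG σ} (hx : x ∈ XP σ) : b * x * b⁻¹ ∈ XP σ := by
  obtain ⟨u, hu, t, ht, rfl⟩ := (spP σ).dec b hb
  have h1 := hXT ht hx
  have h2 : u * t * x * (u * t)⁻¹ = u * (t * x * t⁻¹) * u⁻¹ := by group
  rw [h2, cen h1 hu, mul_inv_cancel_right]
  exact h1

end general

section finite

variable {F : Type*} [Field F] [Fintype F] {q : ℕ} {σ : F →+* F} [hσ : Fact (∀ x, σ (σ x) = x)]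

theorem com (hF : Fintype.card F = q ^ 2) (hs : ∀ x, σ x = x ^ q) {u : PG σ} (hu : u ∈ (spP σ).U)
    (huX : u ∉ XP σ) {x : PG σ} (hx : x ∈ XP σ) : ∃ v ∈ (spP σ).U, v * u * v⁻¹ = u * x := by
  obtain ⟨c, hc, rfl⟩ := exists_unX hx
  obtain ⟨u, hu, rfl⟩ := hu
  obtain ⟨a, b, h, rfl⟩ := exists_un hu
  have ha : a ≠ 0 := by
    rintro rfl
    exact huX ⟨_, ⟨un_mem _ _ _, rfl⟩, rfl⟩
  have hσa : σ a ≠ 0 := (map_ne_zero σ).2 ha
  obtain ⟨z, hz⟩ := exists_trace_eq hF (show (1 : F) ^ q = 1 from one_pow q)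
  rw [← hs] at hz
  have e1 : σ c = -c := by
    have : c + σ c = 0 := by simpa using hc
    linear_combination this
  obtain ⟨b1, hb1⟩ := exists_snd (σ := σ) hF hs (-(c * z) / σ a)
  refine ⟨pr σ (un _ b1 hb1), ⟨_, un_mem _ _ _, rfl⟩, ?_⟩
  rw [mul_inv_eq_iff_eq_mul, ← map_mul, ← map_mul, ← map_mul]
  congr 1
  apply mat_inj
  rw [mat_mul, mat_mul, mat_mul, mat_un, mat_un, mat_un]
  ext i j
  fin_cases i <;> fin_cases j <;>
    simp [Matrix.mul_apply, Fin.sum_univ_three, e1, hσ.out]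
  · ring
  · have e2 : -(c * z) / σ a * σ a = -(c * z) := by field_simp
    have e3 : a * (c * σ z / a) = c * σ z := by field_simp
    rw [e2, e3]
    linear_combination c * hz
  · ring

/-- The root group is fused in the Borel subgroup. -/
theorem f1 (hF : Fintype.card F = q ^ 2) (hs : ∀ x, σ x = x ^ q) {x : PG σ} (hx : x ∈ XP σ)
    (hx1 : x ≠ 1) {y : PG σ} (hy : y ∈ XP σ) (hy1 : y ≠ 1) :
    ∃ b ∈ (spP σ).B, b * x * b⁻¹ = y := by
  obtain ⟨b, h, rfl⟩ := exists_unX hx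
  obtain ⟨b', h', rfl⟩ := exists_unX hy
  have hone : ∀ h0 : (0 : F) + σ 0 + 0 * σ 0 = 0, un 0 0 h0 = (1 : GUJ σ) := by
    intro h0
    apply mat_inj
    rw [mat_un, mat_one]
    ext i j
    fin_cases i <;> fin_cases j <;> simp
  have hb : b ≠ 0 := by
    rintro rfl
    exact hx1 (by rw [hone, map_one])
  have hb' : b' ≠ 0 := by
    rintro rfl
    exact hy1 (by rw [hone, map_one])
  have e1 : σ b = -b := by
    have : b + σ b = 0 := by simpa using h
    linear_combination this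
  have e2 : σ b' = -b' := by
    have : b' + σ b' = 0 := by simpa using h'
    linear_combination this
  have hfix : (b' / b) ^ q = b' / b := by
    rw [← hs, map_div₀, e1, e2, neg_div_neg_eq]
  obtain ⟨t, ht, htn⟩ := exists_norm_eq_ne hF hfix (div_ne_zero hb' hb)
  rw [← hs] at htn
  have hrel : (1 : F) * σ 1 = 1 := by rw [map_one, one_mul]
  refine ⟨pr σ (dg t 1 ht hrel), (spP σ).TB ⟨_, dg_mem _ _ _ _, rfl⟩, ?_⟩
  rw [← map_mul, ← map_inv, ← map_mul]
  congr 1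
  rw [dg_conj_un t 1 ht hrel 0 b h (conj_rel hrel h)]
  apply mat_inj
  rw [mat_un, mat_un, htn]
  have : b' / b * b = b' := by field_simp
  simp [this]

/-- The fusion in `PGU(3,q)`. -/
theorem fus (hF : Fintype.card F = q ^ 2) (hq : 3 ≤ q) (hs : ∀ x, σ x = x ^ q) :
    Fus (spP σ) (XP σ) q where
  hq := hq
  cU := card_UP hF hs
  cX := card_XP hF hs
  XU := XP_le
  cen := fun _ hx _ hu => cen hx hu
  com := fun _ hu huX _ hx => com hF hs hu huX hx
  nX := fun _ hb _ hx => nX hb hx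
  f1 := fun _ hx hx1 _ hy hy1 => f1 hF hs hx hx1 hy hy1
  f2 := by
    intro u hu huX v hv hvX
    obtain ⟨t, ht, x, hx, h1⟩ := htr hu huX hv hvX
    obtain ⟨w, hw, h2⟩ := com hF hs hv hvX hx
    refine ⟨w⁻¹ * t, ?_⟩
    have h3 : w⁻¹ * t * u * (w⁻¹ * t)⁻¹ = w⁻¹ * (t * u * t⁻¹) * w := by group
    rw [h3, h1, ← h2]
    group

/-- A character of the multiplicative group. -/
theorem exists_lam (hF : Fintype.card F = q ^ 2) (hq : 3 ≤ q) :
    ∃ lam : Fˣ →* ℂˣ, (∀ x, lam (x ^ (q + 1)) = 1) ∧ ∃ x, lam (x ^ 3) ≠ 1 := by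
  obtain ⟨γ, hγ⟩ := IsCyclic.exists_generator (α := Fˣ)
  have hcard : Nat.card Fˣ = (q + 1) * (q - 1) := card_units_eq hF
  have ho : orderOf γ = (q + 1) * (q - 1) := by
    rw [orderOf_eq_card_of_forall_mem_zpowers hγ, hcard]
  have hmem : γ ^ 3 ∉ (powMonoidHom (q + 1) : Fˣ →* Fˣ).range := by
    rintro ⟨x, hx⟩
    rw [powMonoidHom_apply] at hx
    have h1 : γ ^ (3 * (q - 1)) = 1 := by
      rw [pow_mul, ← hx, ← pow_mul, ← hcard]
      exact pow_card_eq_one'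
    have h2 := orderOf_dvd_of_pow_eq_one h1
    rw [ho] at h2
    have h3 : (q + 1) ∣ 3 := Nat.dvd_of_mul_dvd_mul_right (by omega) h2
    have := Nat.le_of_dvd (by norm_num) h3
    omega
  obtain ⟨lam, h1, h2⟩ := OddOrderCharacters.PrimeTI.exists_hom_ne_one
    (G := Fˣ) ⟨⟨fun a b => mul_comm a b⟩⟩ _ hmem
  exact ⟨lam, fun x => h1 _ ⟨x, rfl⟩, γ, h2⟩

/-- The linear characters of the Borel subgroup of `PG`. -/
theorem exists_linP (lam : Fˣ →* ℂˣ) : ∃ f : (spP σ).B →* ℂˣ,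
    (∀ b : (spP σ).B, (b : PG σ) ∈ (spP σ).U → f b = 1) ∧
    ∀ (t s : F) (ht : t ≠ 0) (hs : s * σ s = 1)
      (h : pr σ (dg t s ht hs) ∈ (spP σ).B),
      f ⟨_, h⟩ = lam (Units.mk0 (t * σ s) (mul_ne_zero ht ((map_ne_zero σ).2
        (left_ne_zero_of_mul_eq_one hs)))) := by
  obtain ⟨f, hf⟩ := exists_tauP σ
  refine ⟨lam.comp f, ?_, ?_⟩
  · rintro ⟨b, hbB⟩ hbU
    have hbU' : b ∈ (Un σ).map (pr σ) := hbU
    obtain ⟨u, hu, hub⟩ := hbU'
    have h1 : f ⟨b, hbB⟩ = 1 := by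
      subst hub
      apply Units.ext
      refine (hf u hu.1 hbB).trans ?_
      rw [hu.2.1, hu.2.2.1, map_one, mul_one, Units.val_one]
    show lam (f ⟨b, hbB⟩) = 1
    rw [h1, map_one]
  · intro t s ht hs h
    show lam (f ⟨pr σ (dg t s ht hs), h⟩) = _
    congr 1
    apply Units.ext
    exact hf _ (dg_mem t s ht hs).1 h

/-- Invariant characters of the Borel subgroup. -/
theorem inv_of_lam (hs : ∀ x, σ x = x ^ q) {lam : Fˣ →* ℂˣ} (hlam : ∀ x, lam (x ^ (q + 1)) = 1)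
    {f : (spP σ).B →* ℂˣ} (hU : ∀ b : (spP σ).B, (b : PG σ) ∈ (spP σ).U → f b = 1)
    (hf : ∀ (t s : F) (ht : t ≠ 0) (hs : s * σ s = 1)
      (h : pr σ (dg t s ht hs) ∈ (spP σ).B),
      f ⟨_, h⟩ = lam (Units.mk0 (t * σ s) (mul_ne_zero ht ((map_ne_zero σ).2
        (left_ne_zero_of_mul_eq_one hs))))) : (spP σ).Inv f := by
  refine ⟨hU, ?_⟩
  rintro _ ⟨g, hg, rfl⟩
  obtain ⟨t, s, ht, hs', rfl⟩ := exists_dg hg
  have h0 : σ t ≠ 0 := (map_ne_zero σ).2 ht
  have e1 : (spP σ).w⁻¹ * pr σ (dg t s ht hs') * (spP σ).w =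
      pr σ (dg (σ t)⁻¹ s (inv_ne_zero h0) hs') := by
    rw [← wel'_conj_dg t s ht hs']
    show (pr σ (wel' σ))⁻¹ * pr σ _ * pr σ (wel' σ) = _
    rw [← map_inv, ← map_mul, ← map_mul]
  have hB : pr σ (dg t s ht hs') ∈ (spP σ).B := (spP σ).TB ⟨_, dg_mem _ _ _ _, rfl⟩
  have hB' : pr σ (dg (σ t)⁻¹ s (inv_ne_zero h0) hs') ∈ (spP σ).B :=
    (spP σ).TB ⟨_, dg_mem _ _ _ _, rfl⟩
  have e2 : f ⟨(spP σ).w⁻¹ * pr σ (dg t s ht hs') * (spP σ).w,
      (spP σ).TB ((spP σ).wT _ ⟨_, dg_mem _ _ _ _, rfl⟩)⟩ = f ⟨_, hB'⟩ := by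
    congr 1
    exact Subtype.ext e1
  have e3 : f ⟨pr σ (dg t s ht hs'), hB⟩ = f ⟨_, hB'⟩ := by
    rw [hf, hf]
    have h1 := hlam (Units.mk0 t ht)
    have h2 : Units.mk0 (t * σ s) (mul_ne_zero ht ((map_ne_zero σ).2
        (left_ne_zero_of_mul_eq_one hs'))) = Units.mk0 ((σ t)⁻¹ * σ s)
        (mul_ne_zero (inv_ne_zero h0) ((map_ne_zero σ).2 (left_ne_zero_of_mul_eq_one hs'))) *
        (Units.mk0 t ht) ^ (q + 1) := by
      apply Units.ext
      rw [Units.val_mul, Units.val_pow_eq_pow_val, Units.val_mk0, Units.val_mk0, Units.val_mk0,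
        pow_succ, ← hs]
      field_simp
    rw [h2, map_mul, h1, mul_one]
  exact e3.trans e2.symm

/-- `PSU(3,q)` has no nontrivial linear characters. -/
theorem perfect (hF : Fintype.card F = q ^ 2) (hq : 3 ≤ q) (hs : ∀ x, σ x = x ^ q)
    (η : S σ →* ℂˣ) : η = 1 := by
  obtain ⟨e⟩ := nonempty_iso (σ := σ) hF hs
  have h1 := Cfsg.Agent.LieClassical.HermPerfect.commutator_SU_eq_top hF le_rfl
    (show ¬ (3 = 3 ∧ q = 2) by omega)
  have h2 := Abelianization.commutator_subset_ker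
    ((η.comp e.toMonoidHom).comp (QuotientGroup.mk' (Subgroup.center (Cfsg.SU 3 F q))))
  rw [h1, top_le_iff, MonoidHom.ker_eq_top_iff] at h2
  ext x
  obtain ⟨y, rfl⟩ := e.surjective x
  obtain ⟨z, rfl⟩ := QuotientGroup.mk'_surjective _ y
  have := DFunLike.congr_fun h2 z
  exact congrArg Units.val this

/-- The inclusion of the Borel subgroups. -/
def incl (σ : F →+* F) [hσ : Fact (∀ x, σ (σ x) = x)] : (spS σ).B →* (spP σ).B where
  toFun b := ⟨((b : S σ) : PG σ), b.2⟩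
  map_one' := rfl
  map_mul' _ _ := rfl

/-- **The degrees `q² - q + 1` and `q (q² - q + 1)`.** -/
theorem exists_red (hF : Fintype.card F = q ^ 2) (hq : 3 ≤ q) (hs : ∀ x, σ x = x ^ q) :
    q ^ 2 - q + 1 ∈ charDegrees (S σ) ∧ q * (q ^ 2 - q + 1) ∈ charDegrees (S σ) := by
  classical
  have : Finite (PG σ) := inferInstance
  have := Fintype.ofFinite (PG σ)
  have := Fintype.ofFinite (S σ)
  obtain ⟨lam, hlam, x, hx⟩ := exists_lam hF hq
  obtain ⟨f, hfU, hf⟩ := exists_linP (σ := σ) lam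
  have hinv := inv_of_lam hs hlam hfU hf
  -- the restriction to `S`
  set f' : (spS σ).B →* ℂˣ := f.comp (incl σ) with hf'
  have hinvU' : ∀ b : (spS σ).B, (b : S σ) ∈ (spS σ).U → f' b = 1 := fun b hb => hfU _ hb
  have hinv' : ∀ t, ∀ ht : t ∈ (spS σ).T, f' ⟨t, (spS σ).TB ht⟩ =
      f' ⟨(spS σ).w⁻¹ * t * (spS σ).w, (spS σ).TB ((spS σ).wT t ht)⟩ :=
    fun t ht => hinv.2 t ht
  have hres : ∀ g : S σ, (spS σ).ps f' g = (spP σ).ps f g := fun g =>
    (spP σ).ps_res (S σ) U_le_S w_mem_S f f' (fun b hb => rfl) g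
  have hne1 : f' ≠ 1 := by
    intro h
    apply hx
    have ht : ((x : Fˣ) : F) ≠ 0 := x.ne_zero
    have hrel := dgS_rel (σ := σ) ht
    have h0 : σ (x : F) ≠ 0 := (map_ne_zero σ).2 ht
    have hmem : pr σ (dg (x : F) (σ x / x) ht hrel) ∈ S σ := ⟨_, dgS_mem _ ht hrel, rfl⟩
    have hT : (⟨_, hmem⟩ : S σ) ∈ (spS σ).T := ⟨_, dg_mem _ _ _ _, rfl⟩
    have h1 := DFunLike.congr_fun h ⟨⟨_, hmem⟩, (spS σ).TB hT⟩
    have h2 : f' ⟨⟨_, hmem⟩, (spS σ).TB hT⟩ = lam _ := hf (x : F) (σ x / x) ht hrel _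
    rw [h2, MonoidHom.one_apply] at h1
    have h3 : x ^ 3 = Units.mk0 ((x : F) * σ (σ x / x)) (mul_ne_zero ht ((map_ne_zero σ).2
        (left_ne_zero_of_mul_eq_one hrel))) * x ^ (q + 1) := by
      apply Units.ext
      rw [Units.val_mul, Units.val_pow_eq_pow_val, Units.val_pow_eq_pow_val, Units.val_mk0,
        pow_succ (x : F) q, ← hs, map_div₀, hσ.out]
      field_simp
    rw [h3, map_mul, h1, hlam, one_mul]
  obtain ⟨χ, χ', hne, h, h3⟩ := (fus hF hq hs).exact_degrees f hinv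
  have hsum : (spS σ).ps f' = (fun g : S σ => (χ : PG σ → ℂ) g) + fun g : S σ => (χ' : PG σ → ℂ) g := by
    funext g
    rw [hres, h]
    rfl
  have hc : IsCharacter (S σ) (fun g : S σ => (χ : PG σ → ℂ) g) :=
    Characters.Core.isCharacter_comp (S σ).subtype (Characters.Core.isIrr_isCharacter χ.2)
  have hc' : IsCharacter (S σ) (fun g : S σ => (χ' : PG σ → ℂ) g) :=
    Characters.Core.isCharacter_comp (S σ).subtype (Characters.Core.isIrr_isCharacter χ'.2)
  have hz : (χ : PG σ → ℂ) 1 ≠ 0 := Characters.Core.isIrr_apply_one_ne_zero χ.2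
  have hz' : (χ' : PG σ → ℂ) 1 ≠ 0 := Characters.Core.isIrr_apply_one_ne_zero χ'.2
  obtain ⟨i1, i2⟩ := irr_of_sum_two hc hc' hz hz'
    (by rw [← hsum]; exact (spS σ).norm_ps f' hinv')
  -- no constituent is trivial
  have hno : ∀ α β : S σ → ℂ, IsIrrCharacter (S σ) α → IsIrrCharacter (S σ) β →
      (spS σ).ps f' = α + β → α 1 ≠ 1 := by
    intro α β hα hβ hs' h1
    obtain ⟨η, hη⟩ := Cfsg.Agent.Characters.Linear.exists_hom_of_isIrrCharacter hα h1
    rw [perfect hF hq hs η] at hη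
    have hα1 : α = 1 := by
      rw [hη]
      rfl
    have h4 := (spS σ).inner_ps_one_eq_zero f' hne1
    rw [hs', Characters.Core.classInner_add_left, hα1,
      Characters.Core.classInner_irr_self Characters.Core.isIrr_one] at h4
    obtain ⟨c, hc⟩ := Characters.Core.classInner_isNat (Characters.Core.isIrr_isCharacter hβ)
      (Characters.Core.isCharacter_one (G := S σ))
    rw [hc] at h4
    have : 1 + c = 0 := by exact_mod_cast h4
    omega
  rcases h3 with h3 | h3 | ⟨h3, h4⟩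
  · exact absurd h3 (hno _ _ i1 i2 hsum)
  · exact absurd h3 (hno _ _ i2 i1 (by rw [hsum, add_comm]))
  · exact ⟨mem_charDegrees.2 ⟨_, i1, h3⟩, mem_charDegrees.2 ⟨_, i2, h4⟩⟩

end finite

universe u

/-- The degrees `q² - q + 1` and `q (q² - q + 1)` of `PSU(3,q)`. -/
theorem degrees_red {S : Type u} [Group S] {F : Type*} [Field F] [Fintype F] {q : ℕ}
    (hF : Fintype.card F = q ^ 2) (hq : 3 ≤ q) (e : S ≃* Cfsg.PSU 3 F q) :
    q ^ 2 - q + 1 ∈ charDegrees S ∧ q * (q ^ 2 - q + 1) ∈ charDegrees S := by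
  obtain ⟨σ, hσ, hs, ⟨e'⟩⟩ := exists_iso hF
  obtain ⟨h1, h2⟩ := exists_red (σ := σ) hF hq hs
  exact ⟨PSLTwo.mem_of_equiv (e.trans e') h1, PSLTwo.mem_of_equiv (e.trans e') h2⟩

/-- The order of `PSU(3,q)`. -/
theorem card_dvd {S : Type u} [Group S] {F : Type*} [Field F] [Fintype F] {q : ℕ}
    (hF : Fintype.card F = q ^ 2) (e : S ≃* Cfsg.PSU 3 F q) :
    Nat.card S ∣ (q ^ 3 + 1) * (q ^ 3 * (q ^ 2 - 1)) := by
  obtain ⟨σ, hσ, hs, ⟨e'⟩⟩ := exists_iso hF
  rw [Nat.card_congr (e.trans e').toEquiv]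
  exact card_S hF hs

end Cfsg.Agent.H664.R1.U3
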