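import Cfsg.Agent.H664.R1.U3Iso
import Cfsg.Agent.H664.R1.PSLTwo

/-!
# Itô-Michler for `PSU(3,q)`, `q ≥ 3` (helper664)

* `U3.degrees` : `q ^ 3 + 1` and a multiple of `p (q - 1)` are degrees of `PSU(3,q)`;
* `U3.im` : every prime divisor of the order divides a degree.
-/

set_option autoImplicit false

open Cfsg

namespace Cfsg.Agent.H664.R1.U3

open Cfsg.Agent.Characters.Core Cfsg.Agent.H681.DegBasic Cfsg.Agent.LieClassical.HermBasic

universe u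

/-- **Itô-Michler for `PSU(3,q)`**, `q ≥ 3`. -/
theorem im {S : Type u} [Group S] {F : Type*} [Field F] [Fintype F] {q : ℕ}
    (hF : Fintype.card F = q ^ 2) (hq : 3 ≤ q) (e : S ≃* Cfsg.PSU 3 F q) {p : ℕ} (hp : p.Prime)
    (hd : p ∣ Nat.card S) : H33.IM p S := by
  obtain ⟨σ, hσ, hs, ⟨e'⟩⟩ := exists_iso hF
  rw [Nat.card_congr (e.trans e').toEquiv] at hd
  exact (im_S hF hq hs hp hd).of_equiv (e.trans e')

/-- Two degrees of `PSU(3,q)`, `q ≥ 3`. -/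
theorem degrees {S : Type u} [Group S] {F : Type*} [Field F] [Fintype F] {q : ℕ}
    (hF : Fintype.card F = q ^ 2) (hq : 3 ≤ q) (e : S ≃* Cfsg.PSU 3 F q) :
    (q ^ 3 + 1) ∈ charDegrees S ∧
      ∀ {p k : ℕ}, p.Prime → q = p ^ k → ∃ n ∈ charDegrees S, p * (q - 1) ∣ n := by
  obtain ⟨σ, hσ, hs, ⟨e'⟩⟩ := exists_iso hF
  refine ⟨PSLTwo.mem_of_equiv (e.trans e') (exists_ps hF hq hs), fun {p k} hp hpk => ?_⟩
  obtain ⟨n, hn, hn1⟩ := exists_degree (σ := σ) hF hq hs hp hpk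
  exact ⟨n, PSLTwo.mem_of_equiv (e.trans e') hn, hn1⟩

end Cfsg.Agent.H664.R1.U3
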