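import Cfsg.Agent.H664.R1.U3Four

/-!
# The triangle of `PSU(3,4)` (helper664), in the form used by the assembly
-/

set_option autoImplicit false

open Cfsg

namespace Cfsg.Agent.H664.R1.U3

universe u

theorem triU34 (S : Type u) [Group S] (F : Type) [Field F] [Fintype F]
    (h : Fintype.card F = 16) (hn : Nonempty (S ≃* PSU 3 F 4)) :
    ∃ a b c : ℕ, H671.H5.Adj a b S ∧ H671.H5.Adj b c S ∧ H671.H5.Adj a c S := by
  obtain ⟨e⟩ := hn
  exact tri (by rw [h]; norm_num) (by norm_num) e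

theorem t34 (S : Type u) [Group S] (F : Type) [Field F] [Fintype F]
    (h : Fintype.card F = 4 ^ 2) (hn : Nonempty (S ≃* PSU 3 F 4)) :
    ∃ a b c : ℕ, H671.H5.Adj a b S ∧ H671.H5.Adj b c S ∧ H671.H5.Adj a c S := by
  obtain ⟨e⟩ := hn
  exact tri h (by norm_num) e

end Cfsg.Agent.H664.R1.U3
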