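import Cfsg.Agent.H664.R1.RankMore
import Mathlib.GroupTheory.FiniteAbelian.Duality
import Mathlib.GroupTheory.Sylow

/-!
# Rank one groups: cuspidal characters containing a given linear character of `U` (helper664)

* `Split.exists_cusp` : a cuspidal character whose restriction to `U` contains `θ`;
* `sum_center_aut` : the sum over the centre of a Sylow subgroup is invariant under automorphisms.
-/

set_option autoImplicit false

open Cfsg
open scoped ComplexConjugate Pointwise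

namespace Cfsg.Agent.H664.R1

open Cfsg.Agent.Characters.Core Cfsg.Agent.OddOrderCharacters.Clifford
  Cfsg.Agent.CharactersDeep.MackeyLinear

universe u

variable {G : Type u} [Group G]

namespace Split

variable (D : Split G)

/-- The number of linear characters of `B` trivial on `U`. -/
theorem card_lin_le [Finite G] :
    Finite {f : D.B →* ℂˣ // ∀ b : D.B, (b : G) ∈ D.U → f b = 1} ∧
      Nat.card {f : D.B →* ℂˣ // ∀ b : D.B, (b : G) ∈ D.U → f b = 1} ≤ Nat.card D.T := by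
  classical
  let _ : CommGroup D.T :=
    { (inferInstance : Group D.T) with mul_comm := fun a b => Subtype.ext (D.comm a a.2 b b.2) }
  let res : {f : D.B →* ℂˣ // ∀ b : D.B, (b : G) ∈ D.U → f b = 1} → (D.T →* ℂˣ) :=
    fun f => f.1.comp (Subgroup.inclusion D.TB)
  have hinj : Function.Injective res := by
    rintro ⟨f, hf⟩ ⟨g, hg⟩ h
    apply Subtype.ext
    refine MonoidHom.ext fun b => ?_
    obtain ⟨u, hu, t, ht, hb⟩ := D.dec b b.2
    have h2 : b = ⟨u, D.UB hu⟩ * Subgroup.inclusion D.TB ⟨t, ht⟩ := Subtype.ext hb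
    show f b = g b
    rw [h2, map_mul, map_mul, hf ⟨u, D.UB hu⟩ hu, hg ⟨u, D.UB hu⟩ hu]
    exact congrArg _ (DFunLike.congr_fun h ⟨t, ht⟩)
  have hfin : Finite (D.T →* ℂˣ) := OddOrderCharacters.PrimeTI.finite_hom_units
  refine ⟨Finite.of_injective res hinj, (Nat.card_le_card_of_injective res hinj).trans ?_⟩
  rw [CommGroup.card_monoidHom_of_hasEnoughRootsOfUnity]

/-- **A cuspidal character containing `θ`.** -/
theorem exists_cusp [Fintype G] [Fintype D.U] (θ : D.U →* ℂˣ) (hθ1 : θ ≠ 1)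
    (hθ : ∀ t, t ∈ D.T → t ≠ 1 → ∃ (v : D.U) (h : t⁻¹ * (v : G) * t ∈ D.U), θ v ≠ θ ⟨_, h⟩) :
    ∃ χ : IrrCharacter G, classInner (fun u : D.U => (χ : G → ℂ) u) (fun u => (θ u : ℂ)) ≠ 0 ∧
      classInner (fun u : D.U => (χ : G → ℂ) u) 1 = 0 := by
  classical
  have := finite_irr (G := G)
  have := Fintype.ofFinite (IrrCharacter G)
  by_contra hcon
  push Not at hcon
  obtain ⟨c, hc⟩ := exists_nat_comb (D.isCharacter_gg θ)
  have hcψ : ∀ ψ : IrrCharacter G, classInner (D.gg θ) (ψ : G → ℂ) = c ψ := by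
    intro ψ
    rw [hc, classInner_sum_nsmul_irr]
  have hcθ : ∀ ψ : IrrCharacter G,
      classInner (fun u : D.U => (ψ : G → ℂ) u) (fun u => (θ u : ℂ)) = c ψ := by
    intro ψ
    rw [← Complex.conj_natCast, ← hcψ, D.inner_gg θ ψ.2, classInner_conj_symm]
  have hnorm : ∑ ψ : IrrCharacter G, c ψ ^ 2 = Nat.card D.T + 1 := by
    have e := D.norm_gg θ hθ
    rw [hc, norm_eq_sum] at e
    exact_mod_cast e
  -- the multiplicities in the principal series
  have hps : ∀ f : D.B →* ℂˣ, (∀ b : D.B, (b : G) ∈ D.U → f b = 1) →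
      ∃ d : IrrCharacter G → ℕ, (∀ ψ : IrrCharacter G, classInner (D.ps f) (ψ : G → ℂ) = d ψ) ∧
        ∑ ψ : IrrCharacter G, d ψ * c ψ = 1 := by
    intro f hf
    obtain ⟨d, hd⟩ := exists_nat_comb (D.isCharacter_ps f)
    refine ⟨d, fun ψ => by rw [hd, classInner_sum_nsmul_irr], ?_⟩
    have e := D.inner_U f hf θ hθ1
    have e1 : (fun u : D.U => D.ps f u) =
        ∑ ψ : IrrCharacter G, (d ψ : ℂ) • (fun u : D.U => (ψ : G → ℂ) u) := by
      funext u
      rw [hd, Finset.sum_apply, Finset.sum_apply]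
      refine Finset.sum_congr rfl fun ψ _ => ?_
      rw [Pi.smul_apply, Pi.smul_apply, nsmul_eq_mul, smul_eq_mul]
    rw [e1, classInner_sum_left] at e
    have e2 : ∀ ψ : IrrCharacter G, classInner ((d ψ : ℂ) • (fun u : D.U => (ψ : G → ℂ) u))
        (fun u => (θ u : ℂ)) = ((d ψ * c ψ : ℕ) : ℂ) := by
      intro ψ
      rw [classInner_smul_left, hcθ]
      push_cast
      ring
    rw [Finset.sum_congr rfl fun ψ _ => e2 ψ] at e
    exact_mod_cast e
  -- the map to the linear characters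
  have hM : ∀ ψ : {ψ : IrrCharacter G // c ψ ≠ 0},
      ∃ f : {f : D.B →* ℂˣ // ∀ b : D.B, (b : G) ∈ D.U → f b = 1},
        classInner (D.ps f.1) (ψ.1 : G → ℂ) ≠ 0 := by
    rintro ⟨ψ, hψ⟩
    obtain ⟨f, hf, h⟩ := D.exists_ps ψ.2 (hcon ψ (by rw [hcθ]; exact_mod_cast hψ))
    exact ⟨⟨f, hf⟩, h⟩
  choose M hM using hM
  have hinj : Function.Injective M := by
    rintro ⟨ψ, hψ⟩ ⟨ψ', hψ'⟩ h
    by_contra hne
    have hne' : ψ ≠ ψ' := fun h => hne (Subtype.ext h)
    obtain ⟨d, hd, hs⟩ := hps (M ⟨ψ, hψ⟩).1 (M ⟨ψ, hψ⟩).2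
    have h1 := hM ⟨ψ, hψ⟩
    have h2 := hM ⟨ψ', hψ'⟩
    rw [← h] at h2
    rw [hd] at h1 h2
    have h1' : d ψ ≠ 0 := by exact_mod_cast h1
    have h2' : d ψ' ≠ 0 := by exact_mod_cast h2
    have h3 : ∑ ψ'' ∈ ({ψ, ψ'} : Finset (IrrCharacter G)), d ψ'' * c ψ'' ≤ 1 := by
      rw [← hs]
      exact Finset.sum_le_sum_of_subset (Finset.subset_univ _)
    rw [Finset.sum_pair hne'] at h3
    have h4 : 1 ≤ d ψ * c ψ := Nat.one_le_iff_ne_zero.2 (Nat.mul_ne_zero h1' hψ)
    have h5 : 1 ≤ d ψ' * c ψ' := Nat.one_le_iff_ne_zero.2 (Nat.mul_ne_zero h2' hψ')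
    omega
  have hc1 : ∀ ψ : IrrCharacter G, c ψ ≤ 1 := by
    intro ψ
    by_cases h0 : c ψ = 0
    · omega
    obtain ⟨d, hd, hs⟩ := hps (M ⟨ψ, h0⟩).1 (M ⟨ψ, h0⟩).2
    have h1 := hM ⟨ψ, h0⟩
    rw [hd] at h1
    have h1' : d ψ ≠ 0 := by exact_mod_cast h1
    have h3 : d ψ * c ψ ≤ 1 := by
      rw [← hs]
      exact Finset.single_le_sum (f := fun ψ => d ψ * c ψ) (fun _ _ => Nat.zero_le _)
        (Finset.mem_univ ψ)
    have h4 : 1 * c ψ ≤ d ψ * c ψ := Nat.mul_le_mul_right _ (Nat.one_le_iff_ne_zero.2 h1')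
    omega
  obtain ⟨hfin, hle⟩ := D.card_lin_le
  have h1 := Nat.card_le_card_of_injective M hinj
  have h2 : Nat.card {ψ : IrrCharacter G // c ψ ≠ 0} = ∑ ψ : IrrCharacter G, c ψ ^ 2 := by
    rw [Nat.card_eq_fintype_card, Fintype.card_subtype, Finset.card_eq_sum_ones,
      Finset.sum_filter]
    refine Finset.sum_congr rfl fun ψ _ => ?_
    have := hc1 ψ
    split_ifs with h
    · have : c ψ = 1 := by omega
      rw [this]; rfl
    · push Not at h
      rw [h]; rfl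
  rw [h2, hnorm] at h1
  omega

end Split

/-- The sum over the centre of a Sylow subgroup is invariant under automorphisms. -/
theorem sum_center_aut [Finite G] {p : ℕ} [Fact p.Prime] (P : Sylow p G) (X : Subgroup G)
    (hX : ∀ x, x ∈ X ↔ x ∈ P ∧ ∀ z ∈ P, z * x = x * z) [Fintype X] {α : G → ℂ}
    (hα : IsClassFunction G α) (σ : MulAut G) : ∑ x : X, α (σ x) = ∑ x : X, α x := by
  classical
  let P' : Sylow p G := P.mapSurjective (f := σ.toMonoidHom) σ.surjective
  obtain ⟨g, hg⟩ := MulAction.exists_smul_eq G P' P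
  have hcoe : (P : Subgroup G) = MulAut.conj g • ((P : Subgroup G).map σ.toMonoidHom) := by
    have h1 := congrArg (fun Q : Sylow p G => (Q : Subgroup G)) hg
    exact h1.symm
  have hmem : ∀ z, z ∈ P → ∃ w ∈ P, z = g * σ w * g⁻¹ := by
    intro z hz
    have hz' : z ∈ (P : Subgroup G) := hz
    rw [hcoe] at hz'
    obtain ⟨y, ⟨w, hw, rfl⟩, h⟩ := hz'
    exact ⟨w, hw, h.symm⟩
  have hmem' : ∀ w, w ∈ P → g * σ w * g⁻¹ ∈ P := by
    intro w hw
    show g * σ w * g⁻¹ ∈ (P : Subgroup G)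
    rw [hcoe]
    exact ⟨σ w, ⟨w, hw, rfl⟩, rfl⟩
  have hmap : ∀ x : X, g * σ x * g⁻¹ ∈ X := by
    intro x
    obtain ⟨hx1, hx2⟩ := (hX x).1 x.2
    refine (hX _).2 ⟨hmem' _ hx1, ?_⟩
    intro z hz
    obtain ⟨w, hw, rfl⟩ := hmem z hz
    have h1 := hx2 w hw
    have h2 : g * σ w * g⁻¹ * (g * σ x * g⁻¹) = g * σ (w * x) * g⁻¹ := by
      rw [map_mul]; group
    have h3 : g * σ x * g⁻¹ * (g * σ w * g⁻¹) = g * σ (x * w) * g⁻¹ := by
      rw [map_mul]; group
    rw [h2, h3, h1]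
  have hbij : Function.Bijective (fun x : X => (⟨g * σ x * g⁻¹, hmap x⟩ : X)) := by
    rw [← Finite.injective_iff_bijective]
    intro x y h
    have h1 : g * σ x * g⁻¹ = g * σ y * g⁻¹ := congrArg Subtype.val h
    have h2 : σ (x : G) = σ (y : G) := by
      have := congrArg (fun a => g⁻¹ * a * g) h1
      simpa [mul_assoc] using this
    exact Subtype.ext (σ.injective h2)
  rw [← Function.Bijective.sum_comp hbij (fun x : X => α x)]
  refine Finset.sum_congr rfl fun x _ => ?_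
  exact (hα (σ x) g).symm

end Cfsg.Agent.H664.R1
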