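import Cfsg.Agent.H664.R1.U3Four
import Cfsg.Agent.H664.R1.Cusp
import Cfsg.Agent.H596.OneFacts
import Cfsg.Agent.H40.GGFpf

/-!
# Two characters of degree divisible by `r` of `PSU(3,q)`, `q ≥ 3` (helper664)
-/

set_option autoImplicit false
set_option linter.unusedSimpArgs false
set_option linter.unusedSectionVars false

namespace Cfsg.Agent.H664.R1.U3

open Matrix Cfsg Cfsg.Agent.LieRecognition.PSUThreeSylow Cfsg.Agent.LieClassical.HermBasic
open Cfsg.Agent.H681.DegBasic Cfsg.Agent.Characters.Core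
open scoped ComplexConjugate

universe u v

section general

variable {G : Type u} [Group G]

/-- Two different degrees. -/
theorem two_of_mem {n m r : ℕ} (hn : n ∈ charDegrees G) (hm : m ∈ charDegrees G) (h1 : r ∣ n)
    (h2 : r ∣ m) (hne : n ≠ m) : H596.OneFacts.Two r G := by
  obtain ⟨α, rfl⟩ := hn
  obtain ⟨β, rfl⟩ := hm
  exact H596.OneFacts.two_of_degree_ne α β h1 h2 hne

/-- Transport. -/
theorem two_of_equiv {H : Type v} [Group H] (e : G ≃* H) {r : ℕ} (h : H596.OneFacts.Two r H) :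
    H596.OneFacts.Two r G := by
  obtain ⟨α, β, h1, h2, h3⟩ := h
  refine ⟨⟨(α : H → ℂ) ∘ e.toMonoidHom, isIrr_comp e.toMonoidHom e.surjective α.2⟩,
    ⟨(β : H → ℂ) ∘ e.toMonoidHom, isIrr_comp e.toMonoidHom e.surjective β.2⟩, ?_, ?_, ?_⟩
  · have : charDegree ((α : H → ℂ) ∘ e.toMonoidHom) = charDegree (α : H → ℂ) := by
      show charDegree _ = _
      unfold charDegree
      simp
    show r ∣ charDegree ((α : H → ℂ) ∘ e.toMonoidHom)
    rw [this]; exact h1
  · have : charDegree ((β : H → ℂ) ∘ e.toMonoidHom) = charDegree (β : H → ℂ) := by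
      show charDegree _ = _
      unfold charDegree
      simp
    show r ∣ charDegree ((β : H → ℂ) ∘ e.toMonoidHom)
    rw [this]; exact h2
  · intro σ
    obtain ⟨s, hs⟩ := h3 ((e.symm.trans σ).trans e)
    refine ⟨e.symm s, ?_⟩
    intro h
    apply hs
    have h' : (α : H → ℂ) (e (σ (e.symm s))) = (β : H → ℂ) (e (e.symm s)) := h
    rw [e.apply_symm_apply] at h'
    exact h'

/-- No fixed vectors under `X` means no linear characters trivial on `X`. -/
theorem inner_eq_zero_of_noFix [Fintype G] {U X : Subgroup G} [Fintype U] (hXU : X ≤ U)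
    (θ : U →* ℂˣ) (hθX : ∀ x : U, (x : G) ∈ X → θ x = 1) {χ : G → ℂ} (hχ : IsCharacter G χ)
    (h : NoFix X χ) : classInner (fun u : U => χ u) (fun u => (θ u : ℂ)) = 0 := by
  classical
  by_contra hne
  have : Finite X := inferInstance
  have := Fintype.ofFinite (X.subgroupOf U)
  have h1 := (h.res U hXU).constituent (isCharacter_comp U.subtype hχ)
    (Cfsg.Agent.Characters.Linear.isIrrCharacter_hom θ) hne
  rw [noFix_iff] at h1
  have h3 : ∀ z : X.subgroupOf U, ((θ (z : U) : ℂˣ) : ℂ) = 1 := by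
    intro z
    rw [hθX z (Subgroup.mem_subgroupOf.1 z.2), Units.val_one]
  rw [Finset.sum_congr rfl fun z _ => h3 z, Finset.sum_const, Finset.card_univ, nsmul_eq_mul,
    mul_one, ← Nat.card_eq_fintype_card] at h1
  exact OddOrderCharacters.Clifford.card_ne_zero' h1

end general

section ratio

variable {F : Type*} [Field F] {σ : F →+* F} [hσ : Fact (∀ x, σ (σ x) = x)]

/-- The element of the torus of `S`. -/
def tS (σ : F →+* F) [hσ : Fact (∀ x, σ (σ x) = x)] (t : F) (ht : t ≠ 0) : S σ :=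
  ⟨pr σ (dg t (σ t / t) ht (dgS_rel ht)), _, dgS_mem t ht (dgS_rel ht), rfl⟩

theorem tS_mem (t : F) (ht : t ≠ 0) : tS σ t ht ∈ (spS σ).T := ⟨_, dg_mem _ _ _ _, rfl⟩

/-- The ratio of the values on `t` and `w⁻¹ t w`. -/
theorem lin_ratio (lam : Fˣ →* ℂˣ) (f : (spS σ).B →* ℂˣ)
    (hf : ∀ (t s : F) (ht : t ≠ 0) (hs : s * σ s = 1)
      (h : pr σ (dg t s ht hs) ∈ S σ) (h' : (⟨_, h⟩ : S σ) ∈ (spS σ).B),
      f ⟨⟨_, h⟩, h'⟩ = lam (Units.mk0 (t * σ s) (mul_ne_zero ht ((map_ne_zero σ).2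
        (left_ne_zero_of_mul_eq_one hs))))) (t : F) (ht : t ≠ 0) :
    f ⟨tS σ t ht, (spS σ).TB (tS_mem t ht)⟩ =
      lam (Units.mk0 (t * σ t) (mul_ne_zero ht ((map_ne_zero σ).2 ht))) *
      f ⟨(spS σ).w⁻¹ * tS σ t ht * (spS σ).w, (spS σ).TB ((spS σ).wT _ (tS_mem t ht))⟩ := by
  have hrel := dgS_rel (σ := σ) ht
  have h0 : σ t ≠ 0 := (map_ne_zero σ).2 ht
  have hmem : pr σ (dg t (σ t / t) ht hrel) ∈ S σ := ⟨_, dgS_mem t ht hrel, rfl⟩
  have hT : (⟨_, hmem⟩ : S σ) ∈ (spS σ).T := ⟨_, dg_mem _ _ _ _, rfl⟩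
  have e1 := hf t (σ t / t) ht hrel hmem ((spS σ).TB hT)
  have e2 : ((spS σ).w⁻¹ * ⟨_, hmem⟩ * (spS σ).w : S σ) =
      ⟨pr σ (dg (σ t)⁻¹ (σ t / t) (inv_ne_zero h0) hrel), by
        rw [← w_conj_S t (σ t / t) ht hrel hmem]
        exact ((spS σ).w⁻¹ * ⟨_, hmem⟩ * (spS σ).w).2⟩ :=
    Subtype.ext (w_conj_S t (σ t / t) ht hrel hmem)
  have e3 : f ⟨(spS σ).w⁻¹ * ⟨_, hmem⟩ * (spS σ).w, (spS σ).TB ((spS σ).wT _ hT)⟩ =
      lam (Units.mk0 ((σ t)⁻¹ * σ (σ t / t)) (mul_ne_zero (inv_ne_zero h0) ((map_ne_zero σ).2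
        (left_ne_zero_of_mul_eq_one hrel)))) := by
    rw [← hf (σ t)⁻¹ (σ t / t) (inv_ne_zero h0) hrel (by
        rw [← w_conj_S t (σ t / t) ht hrel hmem]
        exact ((spS σ).w⁻¹ * ⟨_, hmem⟩ * (spS σ).w).2) ⟨_, (dg_mem _ _ _ _).1, rfl⟩]
    congr 1
    exact Subtype.ext e2
  show f ⟨⟨_, hmem⟩, _⟩ = _ * f ⟨(spS σ).w⁻¹ * ⟨_, hmem⟩ * (spS σ).w, _⟩
  rw [e1, e3, ← map_mul]
  congr 1
  apply Units.ext
  rw [Units.val_mul, Units.val_mk0, Units.val_mk0, Units.val_mk0]
  field_simp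

end ratio

section finite

variable {F : Type*} [Field F] [Fintype F] {q : ℕ} {σ : F →+* F} [hσ : Fact (∀ x, σ (σ x) = x)]

theorem exists_thetaS (hF : Fintype.card F = q ^ 2) (hs : ∀ x, σ x = x ^ q) :
    ∃ θ : (spS σ).U →* ℂˣ, θ ≠ 1 ∧ (∀ x : (spS σ).U, (x : S σ) ∈ XS σ → θ x = 1) ∧
      ∀ t, t ∈ (spS σ).T → t ≠ 1 →
        ∃ (v : (spS σ).U) (h : t⁻¹ * (v : S σ) * t ∈ (spS σ).U), θ v ≠ θ ⟨_, h⟩ := by
  obtain ⟨θ, h1, h2, h3⟩ := exists_theta (σ := σ) hF hs
  let j : (spS σ).U →* (spP σ).U :=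
    { toFun := fun u => ⟨((u : S σ) : PG σ), u.2⟩
      map_one' := rfl
      map_mul' := fun _ _ => rfl }
  refine ⟨θ.comp j, ?_, ?_, ?_⟩
  · intro h
    apply h1
    refine MonoidHom.ext fun u => ?_
    exact DFunLike.congr_fun h ⟨⟨u, U_le_S u.2⟩, u.2⟩
  · intro x hx
    exact h2 (j x) hx
  · intro t ht ht1
    obtain ⟨v, hv, hne⟩ := h3 t ht (fun h => ht1 (Subtype.ext h))
    exact ⟨⟨⟨v, U_le_S v.2⟩, v.2⟩, hv, hne⟩

/-- The root group is the centre of the unipotent radical. -/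
theorem mem_XS_iff (hF : Fintype.card F = q ^ 2) (hq : 3 ≤ q) (hs : ∀ x, σ x = x ^ q) (x : S σ) :
    x ∈ XS σ ↔ x ∈ (spS σ).U ∧ ∀ z ∈ (spS σ).U, z * x = x * z := by
  constructor
  · intro hx
    exact ⟨XS_le hx, fun z hz => Subtype.ext (cen hx hz)⟩
  · rintro ⟨hx, hc⟩
    by_contra hxX
    obtain ⟨y, hy, hy1⟩ := (fus (σ := σ) hF hq hs).exists_x
    obtain ⟨v, hv, h⟩ := com (σ := σ) hF hs (u := (x : PG σ)) hx hxX hy
    have h1 := congrArg (Subtype.val) (hc ⟨v, U_le_S hv⟩ hv)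
    have h2 : v * x = x * v := h1
    apply hy1
    rw [h2, mul_inv_cancel_right] at h
    exact (mul_eq_left.1 h.symm)

/-- The unipotent radical is a Sylow subgroup. -/
theorem exists_sylow (hF : Fintype.card F = q ^ 2) (hs : ∀ x, σ x = x ^ q) {p k : ℕ}
    [Fact p.Prime] (hpk : q = p ^ k) (hk : k ≠ 0) : ∃ P : Sylow p (S σ), (P : Subgroup (S σ)) = (spS σ).U := by
  have : Finite (PG σ) := inferInstance
  have hp : p.Prime := Fact.out
  have hpq : p ∣ q := hpk ▸ dvd_pow_self p hk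
  have hU : IsPGroup p (spS σ).U := IsPGroup.of_card (n := 3 * k) (by
    rw [card_US hF hs, hpk]
    ring)
  have hidx : ¬ p ∣ (spS σ).U.index := by
    intro h
    have h1 := (spS σ).U.card_mul_index
    rw [(spS σ).card_G, (spS σ).card_B] at h1
    have h2 : (spS σ).U.index = (Nat.card (spS σ).U + 1) * Nat.card (spS σ).T := by
      have h3 : 0 < Nat.card (spS σ).U := Nat.card_pos
      apply Nat.eq_of_mul_eq_mul_left h3
      rw [h1]
      ring
    rw [h2, card_US hF hs] at h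
    rcases hp.dvd_mul.1 h with h | h
    · have h4 : p ∣ q ^ 3 := hpq.trans (dvd_pow_self q (by norm_num))
      have := (Nat.dvd_add_right h4).1 h
      exact hp.one_lt.ne' (Nat.dvd_one.1 this)
    · have h4 := h.trans (card_TS (σ := σ) hF hs)
      have h5 : p ∣ q ^ 2 := hpq.trans (dvd_pow_self q (by norm_num))
      have hq0 : 0 < q ^ 2 := by
        rcases Nat.eq_zero_or_pos q with h0 | h0
        · rw [h0] at hF
          have := Fintype.card_pos (α := F)
          omega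
        · positivity
      have h6 := Nat.dvd_sub h5 h4
      have h7 : q ^ 2 - (q ^ 2 - 1) = 1 := by omega
      rw [h7] at h6
      exact hp.one_lt.ne' (Nat.dvd_one.1 h6)
  exact ⟨hU.toSylow hidx, rfl⟩

/-- Odd primes dividing `q - 1`. -/
theorem two_sub (hF : Fintype.card F = q ^ 2) (hq : 3 ≤ q) (hs : ∀ x, σ x = x ^ q) {r : ℕ}
    (hr : r.Prime) (hr2 : r ≠ 2) (hd : r ∣ q - 1) : H596.OneFacts.Two r (S σ) := by
  classical
  have : Finite (PG σ) := inferInstance
  have := Fintype.ofFinite (PG σ)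
  have := Fintype.ofFinite (S σ)
  have := Fintype.ofFinite (spS σ).U
  have : Fact r.Prime := ⟨hr⟩
  obtain ⟨p, k, hp, -, hpk, hk⟩ := exists_prime_pow hF
  have : Fact p.Prime := ⟨hp⟩
  -- the first character
  obtain ⟨χ, hχ⟩ := exists_noFix (σ := σ) hF hq hs
  obtain ⟨η, hη⟩ := hχ.exists_res χ.2 (S σ) X_le_S
  have hη' : NoFix (XS σ) (η : S σ → ℂ) := hη
  obtain ⟨n, -, hn⟩ := isIrr_apply_one η.2
  have h1 : q - 1 ∣ n := by
    have := hη'.dvd_degree η.2 (fused hF hs) hn
    rwa [card_XS hF hs] at this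
  have hdη : r ∣ charDegree (η : S σ → ℂ) := by
    have h2 := Cfsg.Agent.Blocks.Basic.irr_one_eq_charDegree η.2
    rw [hn] at h2
    have h3 : n = charDegree (η : S σ → ℂ) := by exact_mod_cast h2
    rw [← h3]
    exact hd.trans h1
  -- the second character
  obtain ⟨θ, hθ1, hθX, hfree⟩ := exists_thetaS (σ := σ) hF hs
  obtain ⟨β, hβ1, hβ2⟩ := (spS σ).exists_cusp θ hθ1 hfree
  -- an element of order `r`
  obtain ⟨c, hc⟩ := exists_prime_orderOf_dvd_card' (G := Fˣ) r (by
    rw [card_units_eq hF]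
    exact hd.mul_left _)
  have hcq : c ^ (q - 1) = 1 := by
    rw [← orderOf_dvd_iff_pow_eq_one, hc]
    exact hd
  have hσc : σ (c : F) = c := by
    rw [hs]
    have h2 : c ^ q = c := by
      have h3 : q = (q - 1) + 1 := by omega
      rw [h3, pow_succ, hcq, one_mul]
    rw [← Units.val_pow_eq_pow_val, h2]
  have hc2 : (c : F) * c ≠ 1 := by
    intro h
    have h3 : c ^ 2 = 1 := by
      apply Units.ext
      rw [Units.val_pow_eq_pow_val, Units.val_one, sq]
      exact h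
    have h4 := orderOf_dvd_of_pow_eq_one h3
    rw [hc] at h4
    exact hr2 ((Nat.prime_dvd_prime_iff_eq hr Nat.prime_two).1 h4)
  have hc1 : (c : F) ≠ 1 := by
    intro h
    apply hc2
    rw [h, one_mul]
  set g := tS σ (c : F) c.ne_zero with hg
  have hgT : g ∈ (spS σ).T := tS_mem _ _
  have hgp : (g : PG σ) = pr σ (dg (c : F) 1 c.ne_zero (by rw [map_one, one_mul])) := by
    show pr σ (dg (c : F) (σ c / c) _ _) = _
    congr 1
    apply mat_inj
    rw [mat_dg, mat_dg, hσc, div_self c.ne_zero]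
  have hgr : g ^ r = 1 := by
    apply Subtype.ext
    show (g : PG σ) ^ r = 1
    rw [hgp, ← del_apply]
    have h2 : (del σ c) ^ r = 1 := by
      rw [← map_pow, ← hc, pow_orderOf_eq_one, map_one]
    exact congrArg Subtype.val h2
  have hQ : IsPGroup r (Subgroup.zpowers g) := by
    intro x
    refine ⟨1, ?_⟩
    obtain ⟨x, hx⟩ := x
    obtain ⟨m, rfl⟩ := Subgroup.mem_zpowers_iff.1 hx
    apply Subtype.ext
    show (g ^ m) ^ (r ^ 1) = 1
    rw [pow_one, ← zpow_natCast, ← _root_.zpow_mul, mul_comm, _root_.zpow_mul, zpow_natCast, hgr,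
      _root_.one_zpow]
  have hrU : ¬ r ∣ Nat.card (spS σ).U := by
    rw [card_US hF hs]
    intro h
    have h2 := Nat.dvd_sub (hr.dvd_of_dvd_pow h) hd
    have h3 : q - (q - 1) = 1 := by omega
    rw [h3] at h2
    exact hr.one_lt.ne' (Nat.dvd_one.1 h2)
  have hnorm : ∀ h ∈ Subgroup.zpowers g, ∀ v ∈ (spS σ).U, h * v * h⁻¹ ∈ (spS σ).U := by
    intro h hh v hv
    have hhB : h ∈ (spS σ).B := by
      have : Subgroup.zpowers g ≤ (spS σ).B := by
        rw [Subgroup.zpowers_le]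
        exact (spS σ).TB hgT
      exact this hh
    exact (spS σ).nU h hhB v hv
  have hfix : ∀ v ∈ (spS σ).U, (∀ h ∈ Subgroup.zpowers g, h * v = v * h) → v = 1 := by
    rintro ⟨v, hvS⟩ hv h
    have h2 := congrArg Subtype.val (h g (Subgroup.mem_zpowers g))
    have h3 : (g : PG σ) * v = v * g := h2
    have hv' : v ∈ (Un σ).map (pr σ) := hv
    obtain ⟨u, hu, rfl⟩ := hv'
    obtain ⟨a, b, hab, rfl⟩ := exists_un hu
    have hrel : (1 : F) * σ 1 = 1 := by rw [map_one, one_mul]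
    have h4 : pr σ (dg (c : F) 1 c.ne_zero hrel * un a b hab * (dg (c : F) 1 c.ne_zero hrel)⁻¹) =
        pr σ (un a b hab) := by
      rw [map_mul, map_mul, map_inv, ← hgp, h3, mul_inv_cancel_right]
    rw [dg_conj_un (c : F) 1 c.ne_zero hrel a b hab (conj_rel hrel hab)] at h4
    have h5 := (QuotientGroup.eq (s := Sc σ)).1 h4
    have h6 : (un ((c : F) * σ 1 * a) ((c : F) * σ c * b) (conj_rel hrel hab))⁻¹ * un a b hab = 1 := by
      refine Un_disj ?_ h5
      exact (Un σ).mul_mem ((Un σ).inv_mem (un_mem _ _ _)) (un_mem _ _ _)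
    have h7 := inv_mul_eq_one.1 h6
    have h8 : (c : F) * a = a := by
      have := congrArg (fun x => mat σ x 0 1) h7
      simp only [mat_un] at this
      simpa using this
    have h9 : (c : F) * c * b = b := by
      have := congrArg (fun x => mat σ x 0 2) h7
      simp only [mat_un, hσc] at this
      simpa using this
    have ha : a = 0 := by
      have : ((c : F) - 1) * a = 0 := by linear_combination h8
      exact (mul_eq_zero.1 this).resolve_left (sub_ne_zero.2 hc1)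
    have hb : b = 0 := by
      have : ((c : F) * c - 1) * b = 0 := by linear_combination h9
      exact (mul_eq_zero.1 this).resolve_left (sub_ne_zero.2 hc2)
    subst ha hb
    apply Subtype.ext
    show pr σ _ = 1
    have h10 : un (0 : F) 0 hab = (1 : GUJ σ) := by
      apply mat_inj
      rw [mat_un, mat_one]
      ext i j
      fin_cases i <;> fin_cases j <;> simp
    rw [h10, map_one]
  have hdβ : r ∣ charDegree (β : S σ → ℂ) := by
    refine H40.Fpf.dvd_degree (Subgroup.zpowers g) (spS σ).U hQ hrU hnorm hfix β.2 ?_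
    rw [← noFix_iff, noFix_iff_inner]
    exact hβ2
  refine ⟨η, β, hdη, hdβ, fun τ => ?_⟩
  by_contra hcon
  push Not at hcon
  obtain ⟨P, hP⟩ := exists_sylow (σ := σ) hF hs hpk hk.ne'
  have := Fintype.ofFinite (XS σ)
  have h3 := sum_center_aut P (XS σ) (fun x => by
    rw [mem_XS_iff hF hq hs x, ← hP]
    rfl) (isIrr_isClassFunction η.2) τ
  rw [(noFix_iff).1 hη', Finset.sum_congr rfl fun (x : XS σ) _ => hcon x, ← noFix_iff] at h3
  exact hβ1 (inner_eq_zero_of_noFix XS_le θ hθX (isIrr_isCharacter β.2) h3)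

/-- Characters of a commutative group not trivial on two given elements. -/
theorem exists_two_ne {A : Type*} [Group A] [Finite A] (hA : IsMulCommutative A) {a b : A}
    (ha : a ≠ 1) (hb : b ≠ 1) : ∃ lam : A →* ℂˣ, lam a ≠ 1 ∧ lam b ≠ 1 := by
  obtain ⟨mu, -, hmu⟩ := OddOrderCharacters.PrimeTI.exists_hom_ne_one hA ⊥ (w := a)
    (by rw [Subgroup.mem_bot]; exact ha)
  obtain ⟨nu, -, hnu⟩ := OddOrderCharacters.PrimeTI.exists_hom_ne_one hA ⊥ (w := b)
    (by rw [Subgroup.mem_bot]; exact hb)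
  by_cases h1 : mu b = 1
  · by_cases h2 : nu a = 1
    · refine ⟨mu * nu, ?_, ?_⟩
      · rw [MonoidHom.mul_apply, h2, mul_one]; exact hmu
      · rw [MonoidHom.mul_apply, h1, one_mul]; exact hnu
    · exact ⟨nu, h2, hnu⟩
  · exact ⟨mu, hmu, h1⟩

/-- A real nonnegative number which is an `r`-th root of unity is one. -/
theorem root_eq_one {z : ℂ} {r m k : ℕ} (hr : r ≠ 0) (hz : z ^ r = 1) (hk : k ≠ 0)
    (h : (k : ℂ) * z = m) : z = 1 := by
  have h1 : ‖z‖ = 1 := Complex.norm_eq_one_of_pow_eq_one hz hr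
  have h2 : (k : ℝ) * 1 = m := by
    have := congrArg norm h
    rw [_root_.norm_mul, h1, Complex.norm_natCast, Complex.norm_natCast] at this
    exact this
  have h3 : k = m := by
    rw [mul_one] at h2
    exact_mod_cast h2
  rw [← h3] at h
  have hk' : (k : ℂ) ≠ 0 := by exact_mod_cast hk
  exact mul_left_cancel₀ hk' (by rw [h, mul_one])

/-- Primes `r ≥ 5` dividing `q + 1`. -/
theorem two_add (hF : Fintype.card F = q ^ 2) (hq : 3 ≤ q) (hs : ∀ x, σ x = x ^ q) {r : ℕ}
    (hr : r.Prime) (hr5 : 5 ≤ r) (hd : r ∣ q + 1) : H596.OneFacts.Two r (S σ) := by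
  classical
  have : Finite (PG σ) := inferInstance
  have := Fintype.ofFinite (PG σ)
  have := Fintype.ofFinite (S σ)
  have := Fintype.ofFinite (spS σ).U
  have : Fact r.Prime := ⟨hr⟩
  have hq4 : 4 ≤ q := by
    have := Nat.le_of_dvd (by omega) hd
    omega
  -- an element of order `r`
  obtain ⟨x, hx⟩ := exists_prime_orderOf_dvd_card' (G := Fˣ) r (by
    rw [card_units_eq hF]
    exact hd.mul_right _)
  have hxq : x ^ (q + 1) = 1 := by
    rw [← orderOf_dvd_iff_pow_eq_one, hx]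
    exact hd
  have hσx : (x : F) * σ x = 1 := by
    rw [hs, ← pow_succ', ← Units.val_pow_eq_pow_val, hxq, Units.val_one]
  have hx3 : x ^ 3 ≠ 1 := by
    intro h
    have h4 := orderOf_dvd_of_pow_eq_one h
    rw [hx] at h4
    have := Nat.le_of_dvd (by norm_num) h4
    omega
  -- a norm different from one
  obtain ⟨c, hc, hc0, hc1⟩ : ∃ c : F, c ^ q = c ∧ c ≠ 0 ∧ c ≠ 1 := by
    by_contra hcon
    push Not at hcon
    have h1 := card_fixed hF
    have h2 : Nat.card {x : F // x ^ q = x} ≤ 2 := by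
      have : Function.Injective (fun x : {x : F // x ^ q = x} => decide (x.1 = 0)) := by
        rintro ⟨x, hx⟩ ⟨y, hy⟩ h
        apply Subtype.ext
        by_cases h0 : x = 0
        · have h3 : y = 0 := by
            have : decide (x = 0) = decide (y = 0) := h
            simpa [h0] using this.symm
          show x = y
          rw [h0]; exact h3.symm
        · have h3 : y ≠ 0 := by
            have : decide (x = 0) = decide (y = 0) := h
            intro h4
            apply h0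
            simpa [h4] using this
          show x = y
          rw [hcon x hx h0]
          exact (hcon y hy h3).symm
      have h4 := Nat.card_le_card_of_injective _ this
      simpa using h4
    omega
  obtain ⟨t, ht, htn⟩ := exists_norm_eq_ne hF hc hc0
  rw [← hs] at htn
  obtain ⟨lam, hl1, hl2⟩ := exists_two_ne (A := Fˣ) ⟨⟨fun a b => mul_comm a b⟩⟩
    (a := Units.mk0 c hc0) (b := x ^ 3) (fun h => hc1 (congrArg Units.val h)) hx3
  obtain ⟨f, hfU, hf⟩ := exists_lin (σ := σ) lam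
  -- the power of `r`
  set a := Nat.factorization (q ^ 2 - 1) r with ha
  set M := r ^ a with hM
  set f' := f ^ M with hf'
  have hfac : q ^ 2 - 1 = (q + 1) * (q - 1) := by
    have := Nat.sq_sub_sq q 1
    simpa using this
  have hne0 : q ^ 2 - 1 ≠ 0 := by
    rw [hfac]
    exact Nat.mul_ne_zero (by omega) (by omega)
  have hcop : Nat.Coprime M (q - 1) := by
    refine Nat.Coprime.pow_left _ ?_
    rw [hr.coprime_iff_not_dvd]
    intro h
    have h2 := Nat.dvd_sub hd h
    have h3 : q + 1 - (q - 1) = 2 := by omega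
    rw [h3] at h2
    have := Nat.le_of_dvd (by norm_num) h2
    omega
  have hcpow : (Units.mk0 c hc0) ^ (q - 1) = 1 := by
    apply Units.ext
    rw [Units.val_pow_eq_pow_val, Units.val_mk0, Units.val_one]
    have h3 : q = (q - 1) + 1 := by omega
    have h4 : c ^ (q - 1) * c = 1 * c := by rw [← pow_succ, ← h3, one_mul]; exact hc
    exact mul_right_cancel₀ hc0 h4
  -- irreducibility
  have hT := tS_mem (σ := σ) t ht
  have hratio := lin_ratio lam f hf t ht
  have hmk : Units.mk0 (t * σ t) (mul_ne_zero ht ((map_ne_zero σ).2 ht)) = Units.mk0 c hc0 :=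
    Units.ext htn
  rw [hmk] at hratio
  have hirr : IsIrrCharacter (S σ) ((spS σ).ps f) := (spS σ).isIrr_ps f ⟨_, hT, by
    rw [hratio]
    intro h
    exact hl1 (mul_eq_right.1 h)⟩
  have hirr' : IsIrrCharacter (S σ) ((spS σ).ps f') := (spS σ).isIrr_ps f' ⟨_, hT, by
    show f _ ^ M ≠ f _ ^ M
    rw [hratio, mul_pow]
    intro h
    have h1 := mul_eq_right.1 h
    have h2 : (lam (Units.mk0 c hc0)) ^ (q - 1) = 1 := by rw [← map_pow, hcpow, map_one]
    have h3 : orderOf (lam (Units.mk0 c hc0)) ∣ Nat.gcd M (q - 1) :=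
      Nat.dvd_gcd (orderOf_dvd_of_pow_eq_one h1) (orderOf_dvd_of_pow_eq_one h2)
    rw [hcop] at h3
    exact hl1 (orderOf_eq_one_iff.1 (Nat.dvd_one.1 h3))⟩
  have hdeg : ∀ g : (spS σ).B →* ℂˣ, IsIrrCharacter (S σ) ((spS σ).ps g) →
      r ∣ charDegree ((spS σ).ps g) := by
    intro g hg
    have h2 := Cfsg.Agent.Blocks.Basic.irr_one_eq_charDegree hg
    rw [(spS σ).ps_one, card_US hF hs] at h2
    have h3 : q ^ 3 + 1 = charDegree ((spS σ).ps g) := by exact_mod_cast h2
    rw [← h3]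
    refine hd.trans ⟨q ^ 2 - q + 1, ?_⟩
    have : q ≤ q ^ 2 := by nlinarith
    zify [this]
    ring
  refine ⟨⟨_, hirr'⟩, ⟨_, hirr⟩, hdeg _ hirr', hdeg _ hirr, fun τ => ?_⟩
  -- the element of order `r`
  set g := tS σ (x : F) x.ne_zero with hg
  refine ⟨g, ?_⟩
  intro heq
  have heq' : (spS σ).ps f' (τ g) = (spS σ).ps f g := heq
  have hgT : g ∈ (spS σ).T := tS_mem _ _
  have hσx0 : σ (x : F) ≠ 0 := (map_ne_zero σ).2 x.ne_zero
  have hxinv : (σ (x : F))⁻¹ = x := inv_eq_of_mul_eq_one_left hσx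
  have hgw : (spS σ).w⁻¹ * g * (spS σ).w = g := by
    apply Subtype.ext
    have h1 := w_conj_S (σ := σ) (x : F) (σ x / x) x.ne_zero (dgS_rel x.ne_zero) g.2
    refine h1.trans ?_
    show pr σ _ = pr σ _
    congr 1
    apply mat_inj
    rw [mat_dg, mat_dg]
    simp only [hxinv]
  have hgr : g ^ r = 1 := by
    have hpow : ∀ m : ℕ, ∀ (y s : F) (hy : y ≠ 0) (hs' : s * σ s = 1), ∃ (h1 : y ^ m ≠ 0)
        (h2 : s ^ m * σ (s ^ m) = 1), (dg y s hy hs') ^ m = dg (y ^ m) (s ^ m) h1 h2 := by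
      intro m
      induction m with
      | zero =>
        intro y s hy hs'
        refine ⟨by rw [pow_zero]; exact one_ne_zero, by rw [pow_zero, map_one, one_mul], ?_⟩
        apply mat_inj
        rw [pow_zero, mat_one, mat_dg]
        ext i j
        fin_cases i <;> fin_cases j <;> simp
      | succ m ih =>
        intro y s hy hs'
        obtain ⟨h1, h2, h3⟩ := ih y s hy hs'
        refine ⟨pow_ne_zero _ hy, by rw [map_pow, ← mul_pow, hs', one_pow], ?_⟩
        rw [pow_succ, h3, dg_mul]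
        apply mat_inj
        rw [mat_dg, mat_dg, pow_succ, pow_succ]
    apply Subtype.ext
    show (pr σ (dg (x : F) (σ x / x) _ _)) ^ r = 1
    obtain ⟨h1, h2, h3⟩ := hpow r (x : F) (σ x / x) x.ne_zero (dgS_rel x.ne_zero)
    rw [← map_pow, h3]
    have hxr : (x : F) ^ r = 1 := by
      rw [← Units.val_pow_eq_pow_val, ← hx, pow_orderOf_eq_one, Units.val_one]
    have h4 : dg ((x : F) ^ r) ((σ x / x) ^ r) h1 h2 = (1 : GUJ σ) := by
      apply mat_inj
      have h5 : (σ (x : F) / x) ^ r = 1 := by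
        rw [div_pow, ← map_pow, hxr, map_one, div_one]
      rw [mat_dg, mat_one, hxr, h5, map_one]
      ext i j
      fin_cases i <;> fin_cases j <;> simp
    rw [h4, map_one]
  -- the value of the first character is a natural number
  have hval' : ∀ y : S σ, y ^ r = 1 → ∃ m : ℕ, (spS σ).ps f' y = m := by
    intro y hy
    have hone : ∀ z : S σ, z ^ r = 1 → ∃ m : ℕ,
        extendByZero (spS σ).B (fun b => ((f' b : ℂˣ) : ℂ)) z = m := by
      intro z hz
      by_cases hzB : z ∈ (spS σ).B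
      · refine ⟨1, ?_⟩
        rw [OddOrderCharacters.Clifford.ext_apply_mem _ _ _ hzB]
        have h1 : f' ⟨z, hzB⟩ ^ r = 1 := by
          rw [← map_pow]
          have : (⟨z, hzB⟩ : (spS σ).B) ^ r = 1 := Subtype.ext hz
          rw [this, map_one]
        have h2 : f' ⟨z, hzB⟩ ^ ((q ^ 2 - 1) / M) = 1 := by
          show (f _ ^ M) ^ _ = 1
          rw [← pow_mul, Nat.mul_div_cancel' (Nat.ordProj_dvd _ _)]
          obtain ⟨u, hu, s, hs', hus⟩ := (spS σ).dec z hzB
          have h3 : (⟨z, hzB⟩ : (spS σ).B) = ⟨u, (spS σ).UB hu⟩ * ⟨s, (spS σ).TB hs'⟩ :=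
            Subtype.ext hus
          rw [h3, map_mul, hfU _ hu, one_mul]
          have h4 : s ^ (q ^ 2 - 1) = 1 := by
            have h5 : (⟨s, hs'⟩ : (spS σ).T) ^ Nat.card (spS σ).T = 1 := pow_card_eq_one'
            obtain ⟨e, he⟩ := card_TS (σ := σ) hF hs
            rw [he, pow_mul]
            have h6 : s ^ Nat.card (spS σ).T = 1 := congrArg Subtype.val h5
            rw [h6, one_pow]
          rw [← map_pow]
          have h7 : (⟨s, (spS σ).TB hs'⟩ : (spS σ).B) ^ (q ^ 2 - 1) = 1 := Subtype.ext h4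
          rw [h7, map_one]
        have h3 : orderOf (f' ⟨z, hzB⟩) ∣ Nat.gcd r ((q ^ 2 - 1) / M) :=
          Nat.dvd_gcd (orderOf_dvd_of_pow_eq_one h1) (orderOf_dvd_of_pow_eq_one h2)
        have h4 : Nat.Coprime r ((q ^ 2 - 1) / M) := Nat.coprime_ordCompl hr hne0
        rw [h4] at h3
        rw [orderOf_eq_one_iff.1 (Nat.dvd_one.1 h3), Units.val_one, Nat.cast_one]
      · exact ⟨0, by rw [OddOrderCharacters.Clifford.ext_apply_not_mem _ _ _ hzB, Nat.cast_zero]⟩
    rw [(spS σ).ps_apply]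
    obtain ⟨m, hm⟩ := hone y hy
    have h2 : ∀ u : (spS σ).U, ∃ m : ℕ, extendByZero (spS σ).B (fun b => ((f' b : ℂˣ) : ℂ))
        (((u : S σ) * (spS σ).w)⁻¹ * y * ((u : S σ) * (spS σ).w)) = m := by
      intro u
      apply hone
      have h3 : ((u : S σ) * (spS σ).w)⁻¹ * y * ((u : S σ) * (spS σ).w) =
          MulAut.conj ((u : S σ) * (spS σ).w)⁻¹ y := by
        rw [MulAut.conj_apply, inv_inv]
      rw [h3, ← map_pow, hy, map_one]
    choose n hn using h2
    refine ⟨m + ∑ u : (spS σ).U, n u, ?_⟩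
    rw [hm, Finset.sum_congr rfl fun u _ => hn u]
    push_cast
    rfl
  -- the value of the second character
  have hval : ∃ k : ℕ, k ≠ 0 ∧ (spS σ).ps f g = k * ((f ⟨g, (spS σ).TB hgT⟩ : ℂˣ) : ℂ) := by
    rw [(spS σ).ps_apply, OddOrderCharacters.Clifford.ext_apply_mem _ _ _ ((spS σ).TB hgT)]
    have h2 : ∀ u : (spS σ).U, ∃ m : ℕ, extendByZero (spS σ).B (fun b => ((f b : ℂˣ) : ℂ))
        (((u : S σ) * (spS σ).w)⁻¹ * g * ((u : S σ) * (spS σ).w)) =
          m * ((f ⟨g, (spS σ).TB hgT⟩ : ℂˣ) : ℂ) := by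
      intro u
      have h3 : ((u : S σ) * (spS σ).w)⁻¹ * g * ((u : S σ) * (spS σ).w) =
          (spS σ).w⁻¹ * ((u : S σ)⁻¹ * g * u) * (spS σ).w := by group
      rw [h3]
      by_cases hB : (spS σ).w⁻¹ * ((u : S σ)⁻¹ * g * u) * (spS σ).w ∈ (spS σ).B
      · refine ⟨1, ?_⟩
        have h4 : (u : S σ)⁻¹ * g * u ∈ (spS σ).B :=
          (spS σ).B.mul_mem ((spS σ).B.mul_mem ((spS σ).B.inv_mem ((spS σ).UB u.2))
            ((spS σ).TB hgT)) ((spS σ).UB u.2)
        have h5 := (spS σ).cap _ h4 hB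
        have h6 : g⁻¹ * ((u : S σ)⁻¹ * g * u) ∈ (spS σ).T :=
          (spS σ).T.mul_mem ((spS σ).T.inv_mem hgT) h5
        have h7 : g⁻¹ * ((u : S σ)⁻¹ * g * u) ∈ (spS σ).U := by
          have h8 := (spS σ).nU' ((spS σ).TB hgT) ((spS σ).U.inv_mem u.2)
          have h9 := (spS σ).U.mul_mem h8 u.2
          have h10 : g⁻¹ * (u : S σ)⁻¹ * g * u = g⁻¹ * ((u : S σ)⁻¹ * g * u) := by group
          rw [← h10]
          exact h9
        have h8 := (spS σ).disj _ h7 h6
        have h9 : (u : S σ)⁻¹ * g * u = g := (inv_mul_eq_one.1 h8).symm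
        rw [h9, hgw, OddOrderCharacters.Clifford.ext_apply_mem _ _ _ ((spS σ).TB hgT), Nat.cast_one,
          one_mul]
      · exact ⟨0, by rw [OddOrderCharacters.Clifford.ext_apply_not_mem _ _ _ hB, Nat.cast_zero,
          zero_mul]⟩
    choose n hn using h2
    refine ⟨1 + ∑ u : (spS σ).U, n u, by omega, ?_⟩
    rw [Finset.sum_congr rfl fun u _ => hn u, ← Finset.sum_mul]
    push_cast
    ring
  obtain ⟨m, hm⟩ := hval' (τ g) (by rw [← map_pow, hgr, map_one])
  obtain ⟨k, hk, hkv⟩ := hval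
  rw [hm, hkv] at heq'
  have hfg : f ⟨g, (spS σ).TB hgT⟩ = lam (x ^ 3) := by
    refine (hf (x : F) (σ x / x) x.ne_zero (dgS_rel x.ne_zero) g.2 _).trans ?_
    congr 1
    apply Units.ext
    rw [Units.val_mk0, Units.val_pow_eq_pow_val, map_div₀, hσ.out]
    field_simp
    linear_combination -hσx
  have hone := root_eq_one (z := ((f ⟨g, (spS σ).TB hgT⟩ : ℂˣ) : ℂ)) (r := r) (m := m) (k := k)
    hr.ne_zero (by
      rw [← Units.val_pow_eq_pow_val, ← map_pow]
      have : (⟨g, (spS σ).TB hgT⟩ : (spS σ).B) ^ r = 1 := Subtype.ext hgr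
      rw [this, map_one, Units.val_one]) hk heq'.symm
  apply hl2
  rw [← hfg]
  exact Units.ext hone

/-- **Two characters of degree divisible by `r`.** -/
theorem two_S (hF : Fintype.card F = q ^ 2) (hq : 3 ≤ q) (hs : ∀ x, σ x = x ^ q) {r : ℕ}
    (hr : r.Prime) (hd : r ∣ Nat.card (S σ)) : H596.OneFacts.Two r (S σ) := by
  classical
  have : Finite (PG σ) := inferInstance
  have := Fintype.ofFinite (PG σ)
  have := Fintype.ofFinite (S σ)
  obtain ⟨p, k, hp, -, hpk, hk⟩ := exists_prime_pow hF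
  have hpq : p ∣ q := hpk ▸ dvd_pow_self p hk.ne'
  have d0 : q ^ 3 ∈ charDegrees (S σ) := by
    have h := (spS σ).steinberg
    rwa [card_US hF hs] at h
  have d1 := exists_ps (σ := σ) hF hq hs
  obtain ⟨d2, d3⟩ := exists_red (σ := σ) hF hq hs
  obtain ⟨n, hn, hn1⟩ := exists_degree (σ := σ) hF hq hs hp hpk
  have hqq : q < q ^ 2 := by nlinarith
  have hNle : q ^ 2 - q + 1 < q * (q ^ 2 - q + 1) := by
    have h1 : 1 < q := by omega
    have h2 : 0 < q ^ 2 - q + 1 := by omega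
    calc q ^ 2 - q + 1 = 1 * (q ^ 2 - q + 1) := (one_mul _).symm
      _ < q * (q ^ 2 - q + 1) := Nat.mul_lt_mul_of_pos_right h1 h2
  have hpn : n ≠ q ^ 3 + 1 := by
    rintro rfl
    have h1 : p ∣ q ^ 3 + 1 := (dvd_mul_right _ _).trans hn1
    have h2 : p ∣ q ^ 3 := hpq.trans (dvd_pow_self q (by norm_num))
    have := (Nat.dvd_add_right h2).1 h1
    exact hp.one_lt.ne' (Nat.dvd_one.1 this)
  have hfac1 : q ^ 3 + 1 = (q + 1) * (q ^ 2 - q + 1) := by
    zify [hqq.le]
    ring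
  have hfac : q ^ 2 - 1 = (q + 1) * (q - 1) := by
    have := Nat.sq_sub_sq q 1
    simpa using this
  -- `r` divides `q + 1`
  have plus : r ∣ q + 1 → H596.OneFacts.Two r (S σ) := by
    intro h
    by_cases h2 : r = 2
    · subst h2
      refine two_of_mem hn d1 (dvd_trans ?_ hn1) (by rw [hfac1]; exact h.mul_right _) hpn
      apply Dvd.dvd.mul_left
      omega
    by_cases h3 : r = 3
    · subst h3
      have h4 : 3 ∣ q ^ 2 - q + 1 := by
        obtain ⟨c, hc⟩ := h
        have h5 : q ^ 2 - q + 1 = 3 * (3 * c ^ 2 - 3 * c + 1) := by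
          have hc1 : 1 ≤ c := by omega
          have hc2 : 3 * c ≤ 3 * c ^ 2 := by nlinarith
          have hq' : (q : ℤ) = 3 * c - 1 := by omega
          zify [hqq.le, hc2]
          rw [hq']
          ring
        exact ⟨_, h5⟩
      exact two_of_mem d2 d3 h4 (h4.mul_left _) hNle.ne
    refine two_add (σ := σ) hF hq hs hr ?_ h
    have := hr.two_le
    have h4 : r ≠ 4 := by
      rintro rfl
      exact absurd hr (by norm_num)
    omega
  have hd' := hd.trans (card_S (σ := σ) hF hs)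
  rcases hr.dvd_mul.1 hd' with h | h
  · rw [hfac1] at h
    rcases hr.dvd_mul.1 h with h | h
    · exact plus h
    · exact two_of_mem d2 d3 h (h.mul_left _) hNle.ne
  rcases hr.dvd_mul.1 h with h | h
  · have h1 : r ∣ q := hr.dvd_of_dvd_pow h
    refine two_of_mem d0 d3 h (h1.mul_right _) ?_
    intro h2
    have h3 : q ^ 3 = q * q ^ 2 := by ring
    rw [h3] at h2
    have h4 := Nat.eq_of_mul_eq_mul_left (by omega) h2
    omega
  · rw [hfac] at h
    rcases hr.dvd_mul.1 h with h | h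
    · exact plus h
    · by_cases h2 : r = 2
      · subst h2
        refine two_of_mem hn d1 (dvd_trans (h.mul_left p) hn1) ?_ hpn
        rw [hfac1]
        apply Dvd.dvd.mul_right
        omega
      · exact two_sub (σ := σ) hF hq hs hr h2 h

end finite

/-- **FactTwo for `PSU(3,q)`, `q ≥ 3`.** -/
theorem two {S' : Type u} [Group S'] {F : Type*} [Field F] [Fintype F] {q : ℕ}
    (hF : Fintype.card F = q ^ 2) (hq : 3 ≤ q) (e : S' ≃* Cfsg.PSU 3 F q) {r : ℕ} (hr : r.Prime)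
    (hd : r ∣ Nat.card S') : H596.OneFacts.Two r S' := by
  obtain ⟨σ, hσ, hs, ⟨e'⟩⟩ := exists_iso hF
  rw [Nat.card_congr (e.trans e').toEquiv] at hd
  exact two_of_equiv (e.trans e') (two_S (σ := σ) hF hq hs hr hd)

end Cfsg.Agent.H664.R1.U3
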