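import Cfsg.Agent.H664.R1.RankDeg

/-!
# Rank one groups: multiplicities of linear characters of `U` (helper664)

* `Fus.inner_theta` : `⟨χ|_U, θ⟩ = ⟨χ|_U, 1⟩ - χ(u)`, `u ∈ U` outside `X`, `θ ≠ 1` trivial on `X`;
* `Split.two_le` : a common constituent of `ps f` and `ps g`, `f ≠ g`, has at least two `U`-fixed vectors.
-/

set_option autoImplicit false

open Cfsg
open scoped ComplexConjugate

namespace Cfsg.Agent.H664.R1

open Cfsg.Agent.Characters.Core Cfsg.Agent.OddOrderCharacters.Clifford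
  Cfsg.Agent.CharactersDeep.MackeyLinear

universe u

variable {G : Type u} [Group G] [Fintype G]

/-- The multiplicity of a nontrivial linear character. -/
theorem Fus.inner_theta {D : Split G} {X : Subgroup G} {q : ℕ} (H : Fus D X q) [Fintype D.U]
    {χ : G → ℂ} (hχ : IsClassFunction G χ) {u : G} (hu : u ∈ D.U) (hu1 : u ∉ X) (θ : D.U →* ℂˣ)
    (hθ1 : θ ≠ 1) (hθX : ∀ x : D.U, (x : G) ∈ X → θ x = 1) :
    classInner (fun u : D.U => χ u) (fun u => (θ u : ℂ)) =
      classInner (fun u : D.U => χ u) 1 - χ u := by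
  classical
  have h0 := classInner_irr_ne (Cfsg.Agent.Characters.Linear.isIrrCharacter_hom θ)
    (isIrr_one (G := D.U)) (by
      intro h
      apply hθ1
      ext u
      have := congrFun h u
      simpa using this)
  have hsum : ∑ z : D.U, conj ((θ z : ℂˣ) : ℂ) = 0 := by
    rw [← map_sum]
    rw [classInner_def] at h0
    simp only [Pi.one_apply, map_one, mul_one] at h0
    have h4 := (mul_eq_zero.1 h0).resolve_left (inv_ne_zero card_ne_zero')
    rw [h4, map_zero]
  have key : ∑ z : D.U, χ z * conj ((θ z : ℂˣ) : ℂ) - ∑ z : D.U, χ z =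
      - (Nat.card D.U * χ u) := by
    rw [← Finset.sum_sub_distrib]
    have h1 : ∀ z : D.U, χ z * conj ((θ z : ℂˣ) : ℂ) - χ z =
        χ u * (conj ((θ z : ℂˣ) : ℂ) - 1) := by
      intro z
      by_cases hz : (z : G) ∈ X
      · rw [hθX z hz, Units.val_one, map_one]
        ring
      · obtain ⟨b, hb⟩ := H.f2 u hu hu1 z z.2 hz
        have : χ z = χ u := by
          rw [← hb]
          exact hχ _ _
        rw [this]
        ring
    rw [Finset.sum_congr rfl fun z _ => h1 z, ← Finset.mul_sum, Finset.sum_sub_distrib, hsum,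
      Finset.sum_const, Finset.card_univ, nsmul_eq_mul, ← Nat.card_eq_fintype_card]
    ring
  rw [classInner_def, classInner_def]
  simp only [Pi.one_apply, map_one, mul_one]
  have hU : (Nat.card D.U : ℂ) ≠ 0 := card_ne_zero'
  have h2 : ∑ z : D.U, χ z * conj ((θ z : ℂˣ) : ℂ) = ∑ z : D.U, χ z - Nat.card D.U * χ u := by
    linear_combination key
  rw [h2]
  field_simp

/-- Common constituents of two principal series. -/
theorem Split.two_le (D : Split G) [Fintype D.U] {f g : D.B →* ℂˣ}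
    (hf : ∀ b : D.B, (b : G) ∈ D.U → f b = 1) (hg : ∀ b : D.B, (b : G) ∈ D.U → g b = 1)
    (hfg : f ≠ g) {χ : G → ℂ} (hχ : IsIrrCharacter G χ) (h : classInner (D.ps f) χ ≠ 0)
    (h' : classInner (D.ps g) χ ≠ 0) {k : ℕ} (hk : classInner (fun u : D.U => χ u) 1 = k) :
    2 ≤ k := by
  classical
  have := Fintype.ofFinite D.B
  have := Fintype.ofFinite (D.U.subgroupOf D.B)
  have := finite_irr (G := D.B)
  have := Fintype.ofFinite (IrrCharacter D.B)
  have hU : (Nat.card D.U : ℂ) ≠ 0 := card_ne_zero'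
  have hcard : Nat.card (D.U.subgroupOf D.B) = Nat.card D.U :=
    Nat.card_congr (Subgroup.subgroupOfEquivOfLe D.UB).toEquiv
  have hc : IsCharacter D.B (fun b : D.B => χ b) :=
    isCharacter_comp D.B.subtype (isIrr_isCharacter hχ)
  -- multiplicities
  have hmul : ∀ η : IrrCharacter D.B, ∃ n : ℕ,
      ∑ z : D.U.subgroupOf D.B, (η : D.B → ℂ) z = Nat.card D.U * n := by
    intro η
    obtain ⟨n, hn⟩ := classInner_isNat
      (isCharacter_comp (D.U.subgroupOf D.B).subtype (isIrr_isCharacter η.2))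
      (isCharacter_one (G := D.U.subgroupOf D.B))
    refine ⟨n, ?_⟩
    rw [classInner_def] at hn
    simp only [Pi.one_apply, map_one, mul_one] at hn
    rw [hcard] at hn
    rw [← hn, ← mul_assoc, mul_inv_cancel₀ hU, one_mul]
    rfl
  choose n hn using hmul
  obtain ⟨c, hcη⟩ := exists_nat_comb hc
  have hlin : ∀ l : D.B →* ℂˣ, (∀ b : D.B, (b : G) ∈ D.U → l b = 1) →
      classInner (D.ps l) χ ≠ 0 →
      ∃ η : IrrCharacter D.B, (η : D.B → ℂ) = (fun b => (l b : ℂ)) ∧ c η ≠ 0 ∧ n η = 1 := by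
    intro l hl h
    refine ⟨⟨_, Cfsg.Agent.Characters.Linear.isIrrCharacter_hom l⟩, rfl, ?_, ?_⟩
    · intro h0
      apply h
      rw [D.inner_ps l hχ, ← classInner_conj_symm]
      have h1 := classInner_sum_nsmul_irr c
        ⟨_, Cfsg.Agent.Characters.Linear.isIrrCharacter_hom l⟩
      rw [← hcη] at h1
      rw [h1, h0, Nat.cast_zero, map_zero]
    · have h1 := hn ⟨_, Cfsg.Agent.Characters.Linear.isIrrCharacter_hom l⟩
      have h2 : ∀ z : D.U.subgroupOf D.B, ((l (z : D.B) : ℂˣ) : ℂ) = 1 := by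
        intro z
        rw [hl z (Subgroup.mem_subgroupOf.1 z.2), Units.val_one]
      rw [Finset.sum_congr rfl fun z _ => h2 z, Finset.sum_const, Finset.card_univ, nsmul_eq_mul,
        mul_one, ← Nat.card_eq_fintype_card, hcard] at h1
      have h3 : (1 : ℂ) = (n ⟨_, Cfsg.Agent.Characters.Linear.isIrrCharacter_hom l⟩ : ℂ) :=
        mul_left_cancel₀ hU (by rw [mul_one]; exact h1)
      exact_mod_cast h3.symm
  obtain ⟨η, e1, hcf, hnf⟩ := hlin f hf h
  obtain ⟨η', e2, hcg, hng⟩ := hlin g hg h'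
  have hne : η ≠ η' := by
    intro h0
    apply hfg
    have h1 : (fun b => (f b : ℂ)) = fun b => (g b : ℂ) := by rw [← e1, ← e2, h0]
    ext b
    exact congrFun h1 b
  -- the total
  have htot : k = ∑ η : IrrCharacter D.B, c η * n η := by
    have h1 : (Nat.card D.U : ℂ) * k = ∑ z : D.U.subgroupOf D.B, χ ((z : D.B) : G) := by
      rw [← hk, classInner_def, ← mul_assoc, mul_inv_cancel₀ hU, one_mul]
      refine (Fintype.sum_equiv (Subgroup.subgroupOfEquivOfLe D.UB).toEquiv _ _ fun z => ?_).symm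
      rw [Pi.one_apply, map_one, mul_one]
      rfl
    have h2 : ∀ z : D.U.subgroupOf D.B, χ ((z : D.B) : G) =
        ∑ η : IrrCharacter D.B, (c η : ℂ) * (η : D.B → ℂ) z := by
      intro z
      have := congrFun hcη (z : D.B)
      rw [Finset.sum_apply] at this
      rw [this]
      refine Finset.sum_congr rfl fun η _ => ?_
      rw [Pi.smul_apply, nsmul_eq_mul]
    rw [Finset.sum_congr rfl fun z _ => h2 z, Finset.sum_comm] at h1
    have h3 : ∀ η : IrrCharacter D.B, ∑ z : D.U.subgroupOf D.B, (c η : ℂ) * (η : D.B → ℂ) z =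
        Nat.card D.U * ((c η * n η : ℕ) : ℂ) := by
      intro η
      rw [← Finset.mul_sum, hn]
      push_cast
      ring
    rw [Finset.sum_congr rfl fun η _ => h3 η, ← Finset.mul_sum] at h1
    have h4 := mul_left_cancel₀ hU h1
    exact_mod_cast h4
  rw [htot]
  have h5 : ∑ η ∈ ({η, η'} : Finset (IrrCharacter D.B)), c η * n η ≤
      ∑ η : IrrCharacter D.B, c η * n η :=
    Finset.sum_le_sum_of_subset (Finset.subset_univ _)
  rw [Finset.sum_pair hne, hnf, hng, mul_one, mul_one] at h5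
  have : 1 ≤ c η := Nat.one_le_iff_ne_zero.2 hcf
  have : 1 ≤ c η' := Nat.one_le_iff_ne_zero.2 hcg
  omega

/-- **The constituents of the reducible principal series.** -/
theorem Fus.pair {D : Split G} {X : Subgroup G} {q : ℕ} (H : Fus D X q) [Fintype D.U] {u : G}
    (hu : u ∈ D.U) (hu1 : u ∉ X) (f : D.B →* ℂˣ) (hf : D.Inv f) :
    ∃ χ χ' : IrrCharacter G, χ ≠ χ' ∧ D.ps f = (χ : G → ℂ) + (χ' : G → ℂ) ∧
      (χ : G → ℂ) u = 1 ∧ (χ' : G → ℂ) u = 0 ∧
      classInner (fun u : D.U => (χ : G → ℂ) u) 1 = 1 ∧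
      classInner (fun u : D.U => (χ' : G → ℂ) u) 1 = 1 ∧
      (((χ : G → ℂ) 1 = 1 ∧ (χ' : G → ℂ) 1 = ((q ^ 3 : ℕ) : ℂ)) ∨
        ((χ : G → ℂ) 1 = ((q ^ 2 - q + 1 : ℕ) : ℂ) ∧
          (χ' : G → ℂ) 1 = ((q * (q ^ 2 - q + 1) : ℕ) : ℂ))) := by
  classical
  have hq := H.hq
  have hqq : q ≤ q ^ 2 := by nlinarith
  obtain ⟨x, hx, hx1⟩ := H.exists_x
  obtain ⟨χ, χ', hne, h⟩ := exists_two (D.isCharacter_ps f) (D.norm_ps f hf.2)
  obtain ⟨n, m, k, a, b, h1, h2, h3, h4, h5, h6, h7, h8, h9⟩ := H.values χ.2 hx hx1 hu hu1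
  obtain ⟨n', m', k', a', b', h1', h2', h3', h4', h5', h6', h7', h8', h9'⟩ :=
    H.values χ'.2 hx hx1 hu hu1
  have hk : k ≠ 0 := by
    have := D.inner_ne_zero f hf.1 χ.2 (by
      rw [h, classInner_add_left, classInner_irr_self χ.2, classInner_irr_ne χ'.2 χ.2
        (fun h' => hne (Subtype.ext h'.symm)), add_zero]
      exact one_ne_zero)
    rw [h4] at this
    exact_mod_cast this
  have hk' : k' ≠ 0 := by
    have := D.inner_ne_zero f hf.1 χ'.2 (by
      rw [h, classInner_add_left, classInner_irr_self χ'.2, classInner_irr_ne χ.2 χ'.2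
        (fun h' => hne (Subtype.ext h')), zero_add]
      exact one_ne_zero)
    rw [h4'] at this
    exact_mod_cast this
  have hkk : k + k' = 2 := by
    have h9 := D.inner_U_one f hf.1
    rw [h] at h9
    have h10 := D.inner_add_U (χ : G → ℂ) (χ' : G → ℂ) 1
    rw [h10, h4, h4'] at h9
    exact_mod_cast h9
  have hk1 : k = 1 := by omega
  have hk1' : k' = 1 := by omega
  subst hk1 hk1'
  have hu1' : u ≠ 1 := by
    rintro rfl
    exact hu1 X.one_mem
  have hbb : b + b' = 1 := by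
    have h9 := D.ps_U f hf.1 hu hu1'
    rw [h, Pi.add_apply, h3, h3'] at h9
    exact_mod_cast h9
  have hnn : (n : ℤ) + n' = q ^ 3 + 1 := by
    have h9 := D.ps_one f
    rw [h, Pi.add_apply, h1, h1', H.cU] at h9
    exact_mod_cast h9
  have hq' : (3 : ℤ) ≤ q := by exact_mod_cast hq
  have hq0 : (q : ℤ) ≠ 0 := by omega
  have key : ∀ {m : ℕ} {b : ℤ}, (q : ℤ) ^ 3 * ((1 : ℕ) : ℤ) = q * m + (q ^ 3 - q) * b →
      (m : ℤ) = q ^ 2 - (q ^ 2 - 1) * b ∧ b ≤ 1 := by
    intro m b h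
    have e1 : (m : ℤ) = q ^ 2 - (q ^ 2 - 1) * b := by
      have : (q : ℤ) * m = q * (q ^ 2 - (q ^ 2 - 1) * b) := by
        push_cast at h
        linear_combination -h
      exact mul_left_cancel₀ hq0 this
    refine ⟨e1, ?_⟩
    by_contra hcon
    have hb : 2 ≤ b := by omega
    have hm0 : (0 : ℤ) ≤ m := by positivity
    nlinarith
  obtain ⟨e1, e2⟩ := key h6
  obtain ⟨e1', e2'⟩ := key h6'
  have hposn : ∀ {χ : IrrCharacter G} {n : ℕ}, (χ : G → ℂ) 1 = n → (0 : ℤ) < n := by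
    intro χ n hn
    have : n ≠ 0 := by
      rintro rfl
      exact isIrr_apply_one_ne_zero χ.2 (by rw [hn, Nat.cast_zero])
    omega
  -- the degrees
  have fin : ∀ {n n' m : ℕ} {a b : ℤ}, (m : ℤ) = q ^ 2 - (q ^ 2 - 1) * b → b = 1 →
      (q : ℤ) * m = n + (q - 1) * a → (q : ℤ) ∣ n - m → (n : ℤ) ∣ (q ^ 3 + 1) * (q - 1) * a →
      (0 : ℤ) < n → (n : ℤ) + n' = q ^ 3 + 1 → (n = 1 ∧ n' = q ^ 3) ∨
        (n = q ^ 2 - q + 1 ∧ n' = q * (q ^ 2 - q + 1)) := by
    intro n n' m a b hm hb h5 h7 h8 hpos hs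
    subst hb
    have hm1 : (m : ℤ) = 1 := by rw [hm]; ring
    rw [hm1] at h5 h7
    by_cases hn1 : n = 1
    · subst hn1
      left
      refine ⟨rfl, ?_⟩
      zify
      push_cast at hs
      linear_combination hs
    · right
      have := arith hq' (n := n) (a := a) (by linear_combination -h5) h7 h8
        (by exact_mod_cast hn1) hpos
      zify [hqq]
      refine ⟨this, ?_⟩
      rw [this] at hs
      linear_combination hs
  by_cases hb : b = 1
  · have hb' : b' = 0 := by omega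
    refine ⟨χ, χ', hne, h, by rw [h3, hb, Int.cast_one], by rw [h3', hb', Int.cast_zero],
      by rw [h4, Nat.cast_one], by rw [h4', Nat.cast_one], ?_⟩
    rcases fin e1 hb h5 h7 h8 (hposn h1) hnn with ⟨f1, f2⟩ | ⟨f1, f2⟩
    · exact Or.inl ⟨by rw [h1, f1, Nat.cast_one], by rw [h1', f2]⟩
    · exact Or.inr ⟨by rw [h1, f1], by rw [h1', f2]⟩
  · have hb' : b' = 1 := by omega
    have hb0 : b = 0 := by omega
    refine ⟨χ', χ, hne.symm, by rw [h, add_comm], by rw [h3', hb', Int.cast_one],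
      by rw [h3, hb0, Int.cast_zero], by rw [h4', Nat.cast_one], by rw [h4, Nat.cast_one], ?_⟩
    rcases fin e1' hb' h5' h7' h8' (hposn h1') (by rw [add_comm]; exact hnn) with
      ⟨f1, f2⟩ | ⟨f1, f2⟩
    · exact Or.inl ⟨by rw [h1', f1, Nat.cast_one], by rw [h1, f2]⟩
    · exact Or.inr ⟨by rw [h1', f1], by rw [h1, f2]⟩

end Cfsg.Agent.H664.R1
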