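import Cfsg.Agent.H664.R1.U3Deg

/-!
# The degree graph of `PSU(3,q)`, `q ≥ 3` (helper664)

* `indep` : among three degree primes two are adjacent;
* `conn` : the degree graph is connected;
* `tri` : it contains a triangle, if `q ≠ 4`.
-/

set_option autoImplicit false

open Cfsg

namespace Cfsg.Agent.H664.R1.U3

open Cfsg.Agent.H681.DegBasic Cfsg.Agent.LieClassical.HermBasic Cfsg.Agent.H671.H5

universe u

/-- Adjacency from a degree. -/
theorem adj_of_mem {S : Type u} [Group S] {n a b : ℕ} (hn : n ∈ charDegrees S) (ha : a.Prime)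
    (hb : b.Prime) (hab : a ≠ b) (h1 : a ∣ n) (h2 : b ∣ n) : Adj a b S := by
  obtain ⟨χ, rfl⟩ := hn
  exact adj_iff.2 ⟨hab, ha, hb, χ, Nat.Coprime.mul_dvd_of_dvd_of_dvd
    ((Nat.coprime_primes ha hb).2 hab) h1 h2⟩

/-- The data used for the graph. -/
structure DD (S : Type u) [Group S] (q p : ℕ) : Prop where
  hp : p.Prime
  hpk : ∃ k, q = p ^ k
  hq : 3 ≤ q
  d1 : q ^ 3 + 1 ∈ charDegrees S
  d2 : ∃ n ∈ charDegrees S, p * (q - 1) ∣ n
  d3 : q * (q ^ 2 - q + 1) ∈ charDegrees S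
  card : Nat.card S ∣ (q ^ 3 + 1) * (q ^ 3 * (q ^ 2 - 1))

theorem exists_DD {S : Type u} [Group S] {F : Type*} [Field F] [Fintype F] {q : ℕ}
    (hF : Fintype.card F = q ^ 2) (hq : 3 ≤ q) (e : S ≃* Cfsg.PSU 3 F q) : ∃ p, DD S q p := by
  obtain ⟨p, k, hp, -, hpk, hk⟩ := exists_prime_pow hF
  obtain ⟨h1, h2⟩ := degrees hF hq e
  exact ⟨p, hp, ⟨k, hpk⟩, hq, h1, h2 hp hpk, (degrees_red hF hq e).2, card_dvd hF e⟩

namespace DD

variable {S : Type u} [Group S] {q p : ℕ} (D : DD S q p)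

include D

theorem p_dvd : p ∣ q := by
  obtain ⟨k, hk⟩ := D.hpk
  have h := D.hq
  have hk0 : k ≠ 0 := by
    rintro rfl
    rw [pow_zero] at hk
    omega
  rw [hk]
  exact dvd_pow_self p hk0

theorem dvd_p {r : ℕ} (hr : r.Prime) (h : r ∣ q) : r = p := by
  obtain ⟨k, hk⟩ := D.hpk
  rw [hk] at h
  exact (Nat.prime_dvd_prime_iff_eq hr D.hp).1 (hr.dvd_of_dvd_pow h)

theorem le_sq : q ≤ q ^ 2 := by
  have := D.hq
  nlinarith

theorem fact1 : q ^ 3 + 1 = (q + 1) * (q ^ 2 - q + 1) := by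
  have := D.le_sq
  zify [this]
  ring

/-- The two kinds of degree primes. -/
theorem cases [Finite S] {r : ℕ} (h : r ∈ degreePrimes S) :
    r.Prime ∧ (r ∣ q ^ 3 + 1 ∨ r ∣ p * (q - 1)) := by
  obtain ⟨hr, χ, hd⟩ := mem_degreePrimes.1 h
  refine ⟨hr, ?_⟩
  have h1 : charDegree (χ : S → ℂ) ∣ Nat.card S := dvd_card ⟨χ, rfl⟩
  have h2 := (hd.trans h1).trans D.card
  rcases hr.dvd_mul.1 h2 with h | h
  · exact Or.inl h
  rcases hr.dvd_mul.1 h with h | h
  · right
    rw [D.dvd_p hr (hr.dvd_of_dvd_pow h)]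
    exact dvd_mul_right _ _
  · have h3 : q ^ 2 - 1 = (q + 1) * (q - 1) := by
      have := Nat.sq_sub_sq q 1
      simpa using this
    rw [h3] at h
    rcases hr.dvd_mul.1 h with h | h
    · left
      rw [D.fact1]
      exact h.mul_right _
    · right
      exact h.mul_left _

theorem adjA {a b : ℕ} (ha : a.Prime) (hb : b.Prime) (hab : a ≠ b) (h1 : a ∣ q ^ 3 + 1)
    (h2 : b ∣ q ^ 3 + 1) : Adj a b S := adj_of_mem D.d1 ha hb hab h1 h2

theorem adjB {a b : ℕ} (ha : a.Prime) (hb : b.Prime) (hab : a ≠ b) (h1 : a ∣ p * (q - 1))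
    (h2 : b ∣ p * (q - 1)) : Adj a b S := by
  obtain ⟨n, hn, h⟩ := D.d2
  exact adj_of_mem hn ha hb hab (h1.trans h) (h2.trans h)

theorem adjC {a b : ℕ} (ha : a.Prime) (hb : b.Prime) (hab : a ≠ b) (h1 : a ∣ q * (q ^ 2 - q + 1))
    (h2 : b ∣ q * (q ^ 2 - q + 1)) : Adj a b S := adj_of_mem D.d3 ha hb hab h1 h2

/-- Independence number at most two. -/
theorem indep [Finite S] {a b c : ℕ} (ha : a ∈ degreePrimes S) (hb : b ∈ degreePrimes S)
    (hc : c ∈ degreePrimes S) (hab : a ≠ b) (hbc : b ≠ c) (hac : a ≠ c) :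
    Adj a b S ∨ Adj b c S ∨ Adj a c S := by
  obtain ⟨pa, ha | ha⟩ := D.cases ha <;> obtain ⟨pb, hb | hb⟩ := D.cases hb <;>
    obtain ⟨pc, hc | hc⟩ := D.cases hc
  · exact Or.inl (D.adjA pa pb hab ha hb)
  · exact Or.inl (D.adjA pa pb hab ha hb)
  · exact Or.inr (Or.inr (D.adjA pa pc hac ha hc))
  · exact Or.inr (Or.inl (D.adjB pb pc hbc hb hc))
  · exact Or.inr (Or.inl (D.adjA pb pc hbc hb hc))
  · exact Or.inr (Or.inr (D.adjB pa pc hac ha hc))
  · exact Or.inl (D.adjB pa pb hab ha hb)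
  · exact Or.inl (D.adjB pa pb hab ha hb)

/-- A prime divisor of `q² - q + 1`. -/
theorem exists_r : ∃ r : ℕ, r.Prime ∧ r ∣ q ^ 2 - q + 1 ∧ r ≠ p ∧ r ≠ 2 := by
  have hq := D.hq
  have h1 : q ^ 2 - q + 1 ≠ 1 := by
    have : q < q ^ 2 := by nlinarith
    omega
  obtain ⟨r, hr, hrd⟩ := Nat.exists_prime_and_dvd h1
  refine ⟨r, hr, hrd, ?_, ?_⟩
  · rintro rfl
    have h2 := D.p_dvd
    have h3 : r ∣ q ^ 2 - q := Nat.dvd_sub (h2.trans (dvd_pow_self q two_ne_zero)) h2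
    have h4 := (Nat.dvd_add_right h3).1 hrd
    exact hr.one_lt.ne' (Nat.dvd_one.1 h4)
  · rintro rfl
    have h2 : Even (q ^ 2 - q) := by
      rw [Nat.even_sub D.le_sq, Nat.even_pow' two_ne_zero]
    have h3 := (Nat.dvd_add_right (even_iff_two_dvd.1 h2)).1 hrd
    exact absurd h3 (by norm_num)

/-- The degree graph is connected. -/
theorem conn [Finite S] : ((degreeGraph S).induce (degreePrimes S)).Connected := by
  obtain ⟨r, hr, hrd, hrp, -⟩ := D.exists_r
  have hpq := D.p_dvd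
  have hadj : Adj p r S := D.adjC D.hp hr hrp.symm (hpq.mul_right _) (hrd.mul_left _)
  have hpm : p ∈ degreePrimes S := mem_degreePrimes.2 ⟨D.hp, by
    obtain ⟨χ, hχ⟩ := D.d3
    refine ⟨χ, ?_⟩
    have : p ∣ q * (q ^ 2 - q + 1) := hpq.mul_right _
    rw [← hχ] at this
    exact this⟩
  have hrm : r ∈ degreePrimes S := mem_degreePrimes.2 ⟨hr, by
    obtain ⟨χ, hχ⟩ := D.d3
    refine ⟨χ, ?_⟩
    have : r ∣ q * (q ^ 2 - q + 1) := hrd.mul_left _
    rw [← hχ] at this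
    exact this⟩
  have hr1 : r ∣ q ^ 3 + 1 := by
    rw [D.fact1]
    exact hrd.mul_left _
  rw [SimpleGraph.connected_iff_exists_forall_reachable]
  refine ⟨⟨p, hpm⟩, ?_⟩
  rintro ⟨a, ha⟩
  obtain ⟨pa, h | h⟩ := D.cases ha
  · have h1 : ((degreeGraph S).induce (degreePrimes S)).Reachable ⟨p, hpm⟩ ⟨r, hrm⟩ :=
      SimpleGraph.Adj.reachable (show (degreeGraph S).Adj p r from hadj)
    by_cases har : r = a
    · subst har
      exact h1
    · exact h1.trans (SimpleGraph.Adj.reachable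
        (show (degreeGraph S).Adj r a from D.adjA hr pa har hr1 h))
  · by_cases hap : p = a
    · subst hap
      exact SimpleGraph.Reachable.refl _
    · exact SimpleGraph.Adj.reachable
        (show (degreeGraph S).Adj p a from D.adjB D.hp pa hap (dvd_mul_right _ _) h)

/-- The degree graph contains a triangle, `q` odd. -/
theorem tri_odd (ho : Odd q) : Adj p 2 S ∧ ∃ r, Adj 2 r S ∧ Adj p r S := by
  have hq := D.hq
  obtain ⟨r, hr, hrd, hrp, hr2⟩ := D.exists_r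
  have hpq := D.p_dvd
  have hp2 : p ≠ 2 := by
    rintro rfl
    rw [← Nat.not_even_iff_odd] at ho
    exact ho (even_iff_two_dvd.2 hpq)
  refine ⟨D.adjB D.hp Nat.prime_two hp2 (dvd_mul_right _ _) ?_, r,
    D.adjA Nat.prime_two hr hr2.symm ?_ ?_, D.adjC D.hp hr hrp.symm (hpq.mul_right _) (hrd.mul_left _)⟩
  · apply Dvd.dvd.mul_left
    rw [Nat.odd_iff] at ho
    omega
  · rw [D.fact1]
    apply Dvd.dvd.mul_right
    rw [Nat.odd_iff] at ho
    omega
  · rw [D.fact1]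
    exact hrd.mul_left _

/-- The degree graph contains a triangle, `q` even, `q ≠ 4`. -/
theorem tri_even (ho : Even q) (h4 : q ≠ 4) : ∃ a b c, Adj a b S ∧ Adj b c S ∧ Adj a c S := by
  have hq := D.hq
  have hp2 : p = 2 := (D.dvd_p Nat.prime_two (even_iff_two_dvd.1 ho)).symm
  obtain ⟨k, hk⟩ := D.hpk
  subst hp2
  have h2q := D.p_dvd
  rcases Nat.even_or_odd k with ⟨j, hj⟩ | ⟨j, hj⟩
  · -- two primes in `q - 1`
    have hj2 : 2 ≤ j := by
      by_contra hcon
      have : j = 0 ∨ j = 1 := by omega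
      rcases this with rfl | rfl
      · rw [hk, hj] at hq
        norm_num at hq
      · apply h4
        rw [hk, hj]
        norm_num
    have h5 : q - 1 = (2 ^ j + 1) * (2 ^ j - 1) := by
      rw [hk, hj, pow_add]
      have := Nat.sq_sub_sq (2 ^ j) 1
      rw [one_pow, sq] at this
      exact this
    have h6 : 4 ≤ 2 ^ j := by
      calc 4 = 2 ^ 2 := by norm_num
        _ ≤ 2 ^ j := Nat.pow_le_pow_right (by norm_num) hj2
    obtain ⟨s, hs, hsd⟩ := Nat.exists_prime_and_dvd (show 2 ^ j + 1 ≠ 1 by omega)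
    obtain ⟨t, ht, htd⟩ := Nat.exists_prime_and_dvd (show 2 ^ j - 1 ≠ 1 by omega)
    have hev : 2 ∣ 2 ^ j := dvd_pow_self 2 (by omega)
    have hs2 : s ≠ 2 := by
      rintro rfl
      have := (Nat.dvd_add_right hev).1 hsd
      exact absurd this (by norm_num)
    have ht2 : t ≠ 2 := by
      rintro rfl
      omega
    have hst : s ≠ t := by
      rintro rfl
      have h7 := Nat.dvd_sub hsd htd
      have h8 : 2 ^ j + 1 - (2 ^ j - 1) = 2 := by omega
      rw [h8] at h7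
      exact hs2 ((Nat.prime_dvd_prime_iff_eq hs Nat.prime_two).1 h7)
    have e1 : 2 ∣ 2 * (q - 1) := dvd_mul_right _ _
    have e2 : s ∣ 2 * (q - 1) := by
      rw [h5]
      exact (hsd.mul_right _).mul_left _
    have e3 : t ∣ 2 * (q - 1) := by
      rw [h5]
      exact (htd.mul_left _).mul_left _
    exact ⟨2, s, t, D.adjB Nat.prime_two hs hs2.symm e1 e2, D.adjB hs ht hst e2 e3,
      D.adjB Nat.prime_two ht ht2.symm e1 e3⟩
  · -- two primes in `q² - q + 1`
    have h5 : q % 3 = 2 := by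
      rw [hk, hj, pow_succ, pow_mul]
      have : (2 ^ 2) ^ j % 3 = 1 := by
        rw [Nat.pow_mod]
        norm_num
      omega
    have h6 : ∃ m, q ^ 2 - q + 1 = 3 * m ∧ ¬ 3 ∣ m := by
      obtain ⟨c, hc⟩ : ∃ c, q = 3 * c + 2 := ⟨q / 3, by omega⟩
      refine ⟨3 * c ^ 2 + 3 * c + 1, ?_, ?_⟩
      · have := D.le_sq
        rw [hc] at this ⊢
        zify [this]
        ring
      · intro h
        have h7 : 3 ∣ 3 * c ^ 2 + 3 * c := ⟨c ^ 2 + c, by ring⟩
        have h8 := (Nat.dvd_add_right h7).1 h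
        exact absurd h8 (by norm_num)
    obtain ⟨m, hm, hm3⟩ := h6
    have hm1 : m ≠ 1 := by
      rintro rfl
      have h7 : q ^ 2 = q * q := sq q
      have h8 : 3 * q ≤ q * q := Nat.mul_le_mul_right _ hq
      omega
    obtain ⟨r, hr, hrd⟩ := Nat.exists_prime_and_dvd hm1
    have hr3 : r ≠ 3 := by
      rintro rfl
      exact hm3 hrd
    have hodd : ¬ 2 ∣ q ^ 2 - q + 1 := by
      intro h
      have h2 : Even (q ^ 2 - q) := by
        rw [Nat.even_sub D.le_sq, Nat.even_pow' two_ne_zero]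
      have h3 := (Nat.dvd_add_right (even_iff_two_dvd.1 h2)).1 h
      exact absurd h3 (by norm_num)
    have hrN : r ∣ q ^ 2 - q + 1 := by
      rw [hm]
      exact hrd.mul_left _
    have hr2 : r ≠ 2 := by
      rintro rfl
      exact hodd hrN
    have e1 : 2 ∣ q * (q ^ 2 - q + 1) := h2q.mul_right _
    have e2 : 3 ∣ q * (q ^ 2 - q + 1) := by
      rw [hm]
      exact (dvd_mul_right 3 m).mul_left _
    have e3 : r ∣ q * (q ^ 2 - q + 1) := hrN.mul_left _
    exact ⟨2, 3, r, D.adjC Nat.prime_two Nat.prime_three (by norm_num) e1 e2,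
      D.adjC Nat.prime_three hr hr3.symm e2 e3, D.adjC Nat.prime_two hr hr2.symm e1 e3⟩

end DD

end Cfsg.Agent.H664.R1.U3
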