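import Cfsg.Agent.H664.R1.U3IM
import Cfsg.Agent.H664.R1.SplitMore

/-!
# `4` divides a degree of `PSL(2,q)` (`q ≥ 4`) and of `PSU(3,q)` (`q ≥ 3`) (helper664)
-/

set_option autoImplicit false

open Cfsg

namespace Cfsg.Agent.H664.R1

open Cfsg.Agent.Characters.Core Cfsg.Agent.H681.DegBasic Cfsg.Agent.LieClassical.HermBasic

universe u

namespace PSLTwo

/-- `4` divides a degree of `PSL(2,q)`. -/
theorem four_psl {F : Type*} [Field F] [Fintype F] (h4 : 4 ≤ Fintype.card F) :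
    H33.IM 4 (Matrix.ProjectiveSpecialLinearGroup (Fin 2) F) := by
  by_cases h5 : Fintype.card F = 5
  · obtain ⟨h1, h2, h3⟩ := degrees_five h5
    exact im_of_mem h2 (dvd_refl 4)
  rcases Nat.even_or_odd (Fintype.card F) with h | h
  · have h2 : ringChar F = 2 := FiniteField.even_card_iff_char_two.2 (Nat.even_iff.1 h)
    have : CharP F 2 := h2 ▸ ringChar.charP F
    refine im_of_mem (degrees_even h4).1 ?_
    obtain ⟨n, hp, hn⟩ := FiniteField.card F 2
    rw [hn] at h4 ⊢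
    have h6 : 2 ≤ (n : ℕ) := by
      by_contra hlt
      have : (n : ℕ) = 1 := by have := n.pos; omega
      rw [this] at h4
      norm_num at h4
    exact (pow_dvd_pow 2 h6)
  · have h7 : 5 < Fintype.card F := by
      rw [Nat.odd_iff] at h
      omega
    obtain ⟨h1, h2, h3⟩ := degrees_odd h h7
    rcases (show 4 ∣ Fintype.card F + 1 ∨ 4 ∣ Fintype.card F - 1 by
      rw [Nat.odd_iff] at h; omega) with h8 | h8
    · exact im_of_mem h2 h8
    · exact im_of_mem h3 h8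

/-- `4` divides a degree of `PSL(2,q)`, `q ≥ 4`. -/
theorem four {S : Type u} [Group S] {F : Type*} [Field F] [Fintype F] (h4 : 4 ≤ Fintype.card F)
    (e : S ≃* Matrix.ProjectiveSpecialLinearGroup (Fin 2) F) : H33.IM 4 S :=
  (four_psl h4).of_equiv e

/-- `4` divides a degree of `PSL(2,q)`, `q ≥ 4`. -/
theorem four_of_isL2 {S : Type u} [Group S] (h : H671.H5.IsL2 S) : H33.IM 4 S := by
  obtain ⟨F, _, _, h4, ⟨e⟩⟩ := h
  exact four h4 e

end PSLTwo

namespace U3

/-- The Steinberg degree of `PSU(3,q)`. -/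
theorem steinberg {S : Type u} [Group S] {F : Type*} [Field F] [Fintype F] {q : ℕ}
    (hF : Fintype.card F = q ^ 2) (e : S ≃* Cfsg.PSU 3 F q) : q ^ 3 ∈ charDegrees S := by
  obtain ⟨σ, hσ, hs, ⟨e'⟩⟩ := exists_iso hF
  have := Fintype.ofFinite (PG σ)
  have := Fintype.ofFinite (U3.S σ)
  have h := (spS σ).steinberg
  rw [card_US hF hs] at h
  exact PSLTwo.mem_of_equiv (e.trans e') h

/-- `4` divides a degree of `PSU(3,q)`, `q ≥ 3`. -/
theorem four {S : Type u} [Group S] {F : Type*} [Field F] [Fintype F] {q : ℕ}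
    (hF : Fintype.card F = q ^ 2) (hq : 3 ≤ q) (e : S ≃* Cfsg.PSU 3 F q) : H33.IM 4 S := by
  obtain ⟨h1, h2⟩ := degrees hF hq e
  rcases Nat.even_or_odd q with h | h
  · refine PSLTwo.im_of_mem (steinberg hF e) ?_
    obtain ⟨m, hm⟩ := h
    refine ⟨2 * m ^ 3, ?_⟩
    rw [hm]
    ring
  · obtain ⟨p, k, hp, -, hpk, hk⟩ := exists_prime_pow hF
    obtain ⟨n, hn, hn1⟩ := h2 hp hpk
    rcases (show 4 ∣ q + 1 ∨ 4 ∣ q - 1 by rw [Nat.odd_iff] at h; omega) with h8 | h8
    · refine PSLTwo.im_of_mem h1 (h8.trans ⟨q ^ 2 - q + 1, ?_⟩)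
      have h3 : q ≤ q ^ 2 := by nlinarith
      zify [h3]
      ring
    · exact PSLTwo.im_of_mem hn ((h8.mul_left p).trans hn1)

end U3

end Cfsg.Agent.H664.R1
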