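import Mathlib

/-!
# Tools for quotients by central subgroups (helper664)

* `liftHom` : a homomorphism on a subgroup trivial on the intersection with `Z` induces one on the image;
* `card_classes_le` : `k(G) ≤ |Z| k(G/Z)`;
* `card_map_mk` : the order of the image of a subgroup containing `Z`.
-/

set_option autoImplicit false

namespace Cfsg.Agent.H664.R1

universe u

variable {G : Type u} [Group G]

/-- The induced homomorphism on the image of a subgroup. -/
theorem exists_liftHom {A : Type*} [Group A] (Z : Subgroup G) [Z.Normal] (B : Subgroup G) (f : B →* A)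
    (hf : ∀ b : B, (b : G) ∈ Z → f b = 1) :
    ∃ f' : B.map (QuotientGroup.mk' Z) →* A,
      ∀ (b : B) (h : QuotientGroup.mk' Z (b : G) ∈ B.map (QuotientGroup.mk' Z)),
        f' ⟨QuotientGroup.mk' Z (b : G), h⟩ = f b := by
  have key : ∀ b c : B, QuotientGroup.mk' Z (b : G) = QuotientGroup.mk' Z (c : G) → f b = f c := by
    intro b c h
    have h1 : ((b⁻¹ * c : B) : G) ∈ Z := by
      rw [← QuotientGroup.ker_mk' Z, MonoidHom.mem_ker, Subgroup.coe_mul, Subgroup.coe_inv, map_mul,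
        map_inv, h, inv_mul_cancel]
    have h2 := hf _ h1
    rw [map_mul, map_inv, inv_mul_eq_one] at h2
    exact h2
  have hex : ∀ y : B.map (QuotientGroup.mk' Z), ∃ b : B, QuotientGroup.mk' Z (b : G) = y := by
    rintro ⟨_, b, hb, rfl⟩
    exact ⟨⟨b, hb⟩, rfl⟩
  choose r hr using hex
  refine ⟨⟨⟨fun y => f (r y), ?_⟩, ?_⟩, ?_⟩
  · show f (r 1) = 1
    rw [key (r 1) 1, map_one]
    rw [hr, Subgroup.coe_one, Subgroup.coe_one, map_one]
  · intro x y
    show f (r (x * y)) = f (r x) * f (r y)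
    rw [← map_mul]
    apply key
    rw [hr, Subgroup.coe_mul, Subgroup.coe_mul, map_mul, hr, hr]
  · intro b h
    exact key _ _ (hr _)

/-- The class number of a central quotient. -/
theorem card_classes_le [Finite G] (Z : Subgroup G) [Z.Normal] :
    Nat.card (ConjClasses G) ≤ Nat.card Z * Nat.card (ConjClasses (G ⧸ Z)) := by
  classical
  have hrep : ∀ c : ConjClasses (G ⧸ Z), ∃ g : G, ConjClasses.mk (QuotientGroup.mk' Z g) = c := by
    intro c
    obtain ⟨x, rfl⟩ := ConjClasses.exists_rep c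
    obtain ⟨g, rfl⟩ := QuotientGroup.mk'_surjective Z x
    exact ⟨g, rfl⟩
  choose r hr using hrep
  rw [← Nat.card_prod]
  refine Nat.card_le_card_of_surjective
    (fun p : Z × ConjClasses (G ⧸ Z) => ConjClasses.mk ((p.1 : G) * r p.2)) ?_
  intro C
  obtain ⟨g, rfl⟩ := ConjClasses.exists_rep C
  have h1 := hr (ConjClasses.mk (QuotientGroup.mk' Z g))
  rw [ConjClasses.mk_eq_mk_iff_isConj, isConj_iff] at h1
  obtain ⟨x, hx⟩ := h1
  obtain ⟨h, rfl⟩ := QuotientGroup.mk'_surjective Z x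
  set r' := r (ConjClasses.mk (QuotientGroup.mk' Z g)) with hr'
  have h2 : g * (h * r' * h⁻¹)⁻¹ ∈ Z := by
    rw [← QuotientGroup.ker_mk' Z, MonoidHom.mem_ker, map_mul, map_inv, map_mul, map_mul, map_inv, hx,
      mul_inv_cancel]
  have h3 : h⁻¹ * (g * (h * r' * h⁻¹)⁻¹) * h ∈ Z := by
    have := Subgroup.Normal.conj_mem (inferInstance : Z.Normal) _ h2 h⁻¹
    rwa [inv_inv] at this
  refine ⟨(⟨_, h3⟩, ConjClasses.mk (QuotientGroup.mk' Z g)), ?_⟩
  rw [ConjClasses.mk_eq_mk_iff_isConj, isConj_iff]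
  refine ⟨h, ?_⟩
  show h * (h⁻¹ * (g * (h * r' * h⁻¹)⁻¹) * h * r') * h⁻¹ = g
  group

/-- The order of the image of a subgroup containing `Z`. -/
theorem card_map_mk [Finite G] (Z : Subgroup G) [Z.Normal] (H : Subgroup G) (hZ : Z ≤ H) :
    Nat.card (H.map (QuotientGroup.mk' Z)) * Nat.card Z = Nat.card H := by
  set f : H →* G ⧸ Z := (QuotientGroup.mk' Z).comp H.subtype with hf
  have h1 : f.range = H.map (QuotientGroup.mk' Z) := by
    rw [hf, MonoidHom.range_comp, Subgroup.range_subtype]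
  have h2 : f.ker = Z.subgroupOf H := by
    rw [hf, ← MonoidHom.comap_ker, QuotientGroup.ker_mk']
    rfl
  have h3 := Subgroup.index_ker f
  rw [h1, h2] at h3
  have h4 := (Z.subgroupOf H).index_mul_card
  rw [h3, Nat.card_congr (Subgroup.subgroupOfEquivOfLe hZ).toEquiv] at h4
  exact h4

/-- The image of a subgroup meeting `Z` trivially. -/
theorem card_map_mk_of_disj (Z : Subgroup G) [Z.Normal] (H : Subgroup G)
    (hZ : ∀ h ∈ H, h ∈ Z → h = 1) :
    Nat.card (H.map (QuotientGroup.mk' Z)) = Nat.card H := by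
  refine (Nat.card_congr (Equiv.ofBijective
    (fun h : H => (⟨QuotientGroup.mk' Z h, h, h.2, rfl⟩ : H.map (QuotientGroup.mk' Z))) ⟨?_, ?_⟩)).symm
  · intro a b h
    have h0 : QuotientGroup.mk' Z (a : G) = QuotientGroup.mk' Z (b : G) := congrArg Subtype.val h
    have h1 : (a : G)⁻¹ * b ∈ Z := by
      rw [← QuotientGroup.ker_mk' Z, MonoidHom.mem_ker, map_mul, map_inv, h0, inv_mul_cancel]
    have h2 := hZ _ (H.mul_mem (H.inv_mem a.2) b.2) h1
    exact Subtype.ext (inv_mul_eq_one.1 h2)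
  · rintro ⟨_, h, hh, rfl⟩
    exact ⟨⟨h, hh⟩, rfl⟩

end Cfsg.Agent.H664.R1
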