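import Cfsg.Agent.CharactersDeep.MackeyLinear
import Cfsg.Agent.SuzukiRankOne.M1Mackey
import Cfsg.Agent.OddOrderCharacters.IndRes

/-!
# Groups with a split BN pair of rank one: principal series (helper664)

`Split G` : subgroups `U`, `T`, `B = UT` and `w` with `G = B ∪ BwB`, `B ∩ wBw⁻¹ = T` abelian.

* `ps f` : the character induced from the linear character `f` of `B`;
* `ps_one`, `ps_U` : its values on `U`;
* `isIrr_ps` : irreducible if `f` is not `w`-invariant;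
* `norm_ps` : norm two if `f` is `w`-invariant;
* `inner_U` : inner product of `ps f` restricted to `U` with a linear character.
-/

set_option autoImplicit false

open Cfsg
open scoped ComplexConjugate

namespace Cfsg.Agent.H664.R1

open Cfsg.Agent.Characters.Core Cfsg.Agent.OddOrderCharacters.Clifford
  Cfsg.Agent.CharactersDeep.MackeyLinear

universe u

/-- Split BN pairs of rank one with abelian torus. -/
structure Split (G : Type u) [Group G] where
  /-- the Borel subgroup -/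
  B : Subgroup G
  /-- the unipotent radical -/
  U : Subgroup G
  /-- the torus -/
  T : Subgroup G
  /-- the Weyl element -/
  w : G
  UB : U ≤ B
  TB : T ≤ B
  nU : ∀ b ∈ B, ∀ u ∈ U, b * u * b⁻¹ ∈ U
  dec : ∀ b ∈ B, ∃ u ∈ U, ∃ t ∈ T, b = u * t
  disj : ∀ u ∈ U, u ∈ T → u = 1
  comm : ∀ s ∈ T, ∀ t ∈ T, s * t = t * s
  wT : ∀ t ∈ T, w⁻¹ * t * w ∈ T
  wT' : ∀ t ∈ T, w * t * w⁻¹ ∈ T
  cap : ∀ b ∈ B, w⁻¹ * b * w ∈ B → b ∈ T
  big : ∀ x, x ∉ B → ∃ b ∈ B, ∃ c ∈ B, x = b * w * c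
  wB : w ∉ B

namespace Split

variable {G : Type u} [Group G] (D : Split G)

theorem nU' {b u : G} (hb : b ∈ D.B) (hu : u ∈ D.U) : b⁻¹ * u * b ∈ D.U := by
  have := D.nU b⁻¹ (D.B.inv_mem hb) u hu
  rwa [inv_inv] at this

theorem cell_notMem {u b : G} (hu : u ∈ D.U) (hb : b ∈ D.B) : u * D.w * b ∉ D.B := by
  intro h
  apply D.wB
  have h1 := D.B.mul_mem (D.B.mul_mem (D.B.inv_mem (D.UB hu)) h) (D.B.inv_mem hb)
  have h2 : u⁻¹ * (u * D.w * b) * b⁻¹ = D.w := by group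
  rwa [h2] at h1

theorem cell_inj {u u' b b' : G} (hu : u ∈ D.U) (hu' : u' ∈ D.U) (hb : b ∈ D.B) (hb' : b' ∈ D.B)
    (h : u * D.w * b = u' * D.w * b') : u = u' ∧ b = b' := by
  have h1 : D.w⁻¹ * (u'⁻¹ * u) * D.w = b' * b⁻¹ := by
    have : u'⁻¹ * (u * D.w * b) = u'⁻¹ * (u' * D.w * b') := by rw [h]
    calc D.w⁻¹ * (u'⁻¹ * u) * D.w = D.w⁻¹ * (u'⁻¹ * (u * D.w * b)) * b⁻¹ := by group
      _ = D.w⁻¹ * (u'⁻¹ * (u' * D.w * b')) * b⁻¹ := by rw [this]
      _ = b' * b⁻¹ := by group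
  have h2 : u'⁻¹ * u ∈ D.U := D.U.mul_mem (D.U.inv_mem hu') hu
  have h3 := D.cap _ (D.UB h2) (by rw [h1]; exact D.B.mul_mem hb' (D.B.inv_mem hb))
  have h4 := D.disj _ h2 h3
  have h5 : u = u' := by
    have := congrArg (u' * ·) h4
    simpa using this
  refine ⟨h5, ?_⟩
  rw [h5] at h
  exact mul_left_cancel h

/-- The complement of the Borel subgroup. -/
noncomputable def cellEquiv : D.U × D.B ≃ {x : G // x ∉ D.B} :=
  Equiv.ofBijective (fun p => ⟨p.1 * D.w * p.2, D.cell_notMem p.1.2 p.2.2⟩) (by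
    constructor
    · rintro ⟨u, b⟩ ⟨u', b'⟩ h
      obtain ⟨h1, h2⟩ := D.cell_inj u.2 u'.2 b.2 b'.2 (congrArg Subtype.val h)
      exact Prod.ext (Subtype.ext h1) (Subtype.ext h2)
    · rintro ⟨x, hx⟩
      obtain ⟨b, hb, c, hc, rfl⟩ := D.big x hx
      obtain ⟨u, hu, t, ht, rfl⟩ := D.dec b hb
      refine ⟨(⟨u, hu⟩, ⟨D.w⁻¹ * t * D.w * c, D.B.mul_mem (D.TB (D.wT t ht)) hc⟩), ?_⟩
      apply Subtype.ext
      show u * D.w * (D.w⁻¹ * t * D.w * c) = u * t * D.w * c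
      group)

theorem cellEquiv_apply (u : D.U) (b : D.B) : (D.cellEquiv (u, b) : G) = u * D.w * b := rfl

/-- The Borel subgroup is in bijection with `U × T`. -/
noncomputable def borelEquiv : D.U × D.T ≃ D.B :=
  Equiv.ofBijective (fun p => ⟨p.1 * p.2, D.B.mul_mem (D.UB p.1.2) (D.TB p.2.2)⟩) (by
    constructor
    · rintro ⟨u, t⟩ ⟨u', t'⟩ h
      have h0 : (u : G) * t = u' * t' := congrArg Subtype.val h
      have h1 : (u' : G)⁻¹ * u = t' * (t : G)⁻¹ := by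
        rw [inv_mul_eq_iff_eq_mul, ← mul_assoc, ← h0]; group
      have h2 : (u' : G)⁻¹ * u ∈ D.U := D.U.mul_mem (D.U.inv_mem u'.2) u.2
      have h3 := D.disj _ h2 (by rw [h1]; exact D.T.mul_mem t'.2 (D.T.inv_mem t.2))
      have h4 : (u : G) = u' := (inv_mul_eq_one.1 h3).symm
      rw [h4] at h0
      exact Prod.ext (Subtype.ext h4) (Subtype.ext (mul_left_cancel h0))
    · rintro ⟨b, hb⟩
      obtain ⟨u, hu, t, ht, rfl⟩ := D.dec b hb
      exact ⟨(⟨u, hu⟩, ⟨t, ht⟩), rfl⟩)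

theorem borelEquiv_apply (u : D.U) (t : D.T) : (D.borelEquiv (u, t) : G) = u * t := rfl

theorem card_B [Finite G] : Nat.card D.B = Nat.card D.U * Nat.card D.T := by
  rw [← Nat.card_prod]
  exact (Nat.card_congr D.borelEquiv).symm

open scoped Classical in
/-- Summation over `G`. -/
theorem sum_eq [Fintype G] [Fintype D.U] [Fintype D.B] (f : G → ℂ) :
    ∑ x : G, f x = ∑ b : D.B, f b + ∑ u : D.U, ∑ b : D.B, f (u * D.w * b) := by
  have h0 : ∑ g : G, f g = ∑ g ∈ Finset.univ.filter (fun g : G => g ∈ D.B), f g +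
      ∑ g ∈ Finset.univ.filter (fun g : G => ¬ g ∈ D.B), f g :=
    (Finset.sum_filter_add_sum_filter_not _ _ _).symm
  have h1 : ∑ g ∈ Finset.univ.filter (fun g : G => g ∈ D.B), f g = ∑ b : D.B, f b :=
    Finset.sum_subtype _ (by simp) f
  have h2 : ∑ g ∈ Finset.univ.filter (fun g : G => ¬ g ∈ D.B), f g =
      ∑ u : D.U, ∑ b : D.B, f (u * D.w * b) := by
    have := Fintype.ofFinite {g : G // ¬ g ∈ D.B}
    rw [Finset.sum_subtype (p := fun g : G => ¬ g ∈ D.B) _ (by simp) f]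
    have h3 : ∑ u : D.U, ∑ b : D.B, f (u * D.w * b) = ∑ p : D.U × D.B, f (p.1 * D.w * p.2) := by
      rw [Fintype.sum_prod_type]
    rw [h3]
    exact (Fintype.sum_equiv D.cellEquiv _ _ fun p => rfl).symm
  rw [h0, h1, h2]

theorem card_G [Finite G] : Nat.card G = (Nat.card D.U + 1) * Nat.card D.B := by
  classical
  have := Fintype.ofFinite G
  have := Fintype.ofFinite D.U
  have := Fintype.ofFinite D.B
  have h := D.sum_eq (fun _ => (1 : ℂ))
  simp only [Finset.sum_const, Finset.card_univ, nsmul_eq_mul, mul_one, ← Nat.card_eq_fintype_card]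
    at h
  have h2 : (Nat.card G : ℂ) = ((Nat.card D.B + Nat.card D.U * Nat.card D.B : ℕ) : ℂ) := by
    rw [h]; push_cast; ring
  have h3 := Nat.cast_injective h2
  rw [h3]; ring

theorem index_B [Finite G] : D.B.index = Nat.card D.U + 1 := by
  have h1 := D.B.index_mul_card
  rw [D.card_G] at h1
  exact Nat.eq_of_mul_eq_mul_right Nat.card_pos h1

/-- Conjugates in the Borel subgroup. -/
theorem mem_T_of_conj {u b y : G} (hb : b ∈ D.B) (hu : u ∈ D.U) (hy : y ∈ D.B)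
    (h : (u * D.w * b)⁻¹ * y * (u * D.w * b) ∈ D.B) : u⁻¹ * y * u ∈ D.T := by
  apply D.cap _ (D.B.mul_mem (D.B.mul_mem (D.B.inv_mem (D.UB hu)) hy) (D.UB hu))
  have h1 := D.B.mul_mem (D.B.mul_mem hb h) (D.B.inv_mem hb)
  have h2 : b * ((u * D.w * b)⁻¹ * y * (u * D.w * b)) * b⁻¹ = D.w⁻¹ * (u⁻¹ * y * u) * D.w := by
    group
  rwa [h2] at h1

theorem eq_one_of_conj {u b v : G} (hb : b ∈ D.B) (hu : u ∈ D.U) (hv : v ∈ D.U)
    (h : (u * D.w * b)⁻¹ * v * (u * D.w * b) ∈ D.B) : v = 1 := by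
  have h1 := D.mem_T_of_conj hb hu (D.UB hv) h
  have h2 := D.disj _ (D.U.mul_mem (D.U.mul_mem (D.U.inv_mem hu) hv) hu) h1
  have h3 : v = u * (u⁻¹ * v * u) * u⁻¹ := by group
  rw [h3, h2]; group

section ps

variable [Fintype G]

/-- The principal series. -/
noncomputable def ps (f : D.B →* ℂˣ) : G → ℂ := indFun D.B (fun b => (f b : ℂ))

theorem ps_def (f : D.B →* ℂˣ) : D.ps f = indFun D.B (fun b => (f b : ℂ)) := rfl

theorem isCharacter_ps (f : D.B →* ℂˣ) : IsCharacter G (D.ps f) := by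
  classical
  have := Fintype.ofFinite D.B
  exact Cfsg.Agent.S0148.result D.B _ (Cfsg.Agent.Characters.Linear.isCharacter_hom f)

theorem ps_one (f : D.B →* ℂˣ) : D.ps f 1 = (Nat.card D.U : ℂ) + 1 := by
  rw [ps_def, OddOrderCharacters.IndRes.indFun_apply_one, map_one, Units.val_one, mul_one,
    D.index_B]
  push_cast
  ring

theorem ps_U (f : D.B →* ℂˣ) (hf : ∀ b : D.B, (b : G) ∈ D.U → f b = 1) {v : G} (hv : v ∈ D.U)
    (hv1 : v ≠ 1) : D.ps f v = 1 := by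
  classical
  have := Fintype.ofFinite D.U
  have := Fintype.ofFinite D.B
  rw [ps_def, OddOrderCharacters.Clifford.indFun_apply, D.sum_eq]
  have h1 : ∀ b : D.B, extendByZero D.B (fun b => (f b : ℂ)) ((b : G)⁻¹ * v * b) = 1 := by
    intro b
    have h := D.nU' b.2 hv
    rw [ext_apply_mem D.B _ _ (D.UB h), hf _ h, Units.val_one]
  have h2 : ∀ (u : D.U) (b : D.B), extendByZero D.B (fun b => (f b : ℂ))
      (((u : G) * D.w * b)⁻¹ * v * ((u : G) * D.w * b)) = 0 := by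
    intro u b
    apply ext_apply_not_mem
    exact fun h => hv1 (D.eq_one_of_conj b.2 u.2 hv h)
  rw [Finset.sum_congr rfl fun b _ => h1 b,
    Finset.sum_congr rfl fun u _ => Finset.sum_congr rfl fun b _ => h2 u b]
  simp only [Finset.sum_const_zero, add_zero, Finset.sum_const, Finset.card_univ, nsmul_eq_mul,
    mul_one, ← Nat.card_eq_fintype_card]
  exact inv_mul_cancel₀ card_ne_zero'

/-- `f` is not `w`-invariant: the principal series character is irreducible. -/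
theorem isIrr_ps (f : D.B →* ℂˣ)
    (hf : ∃ t, ∃ ht : t ∈ D.T, f ⟨t, D.TB ht⟩ ≠ f ⟨D.w⁻¹ * t * D.w, D.TB (D.wT t ht)⟩) :
    IsIrrCharacter G (D.ps f) := by
  obtain ⟨t, ht, hne⟩ := hf
  refine isIrrCharacter_indFun D.B f fun x hx => ?_
  obtain ⟨b, hb, c, hc, rfl⟩ := D.big x hx
  have h1 : b * t * b⁻¹ ∈ D.B := D.B.mul_mem (D.B.mul_mem hb (D.TB ht)) (D.B.inv_mem hb)
  have h2 : (b * D.w * c)⁻¹ * (b * t * b⁻¹) * (b * D.w * c) = c⁻¹ * (D.w⁻¹ * t * D.w) * c := by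
    group
  have h3 : c⁻¹ * (D.w⁻¹ * t * D.w) * c ∈ D.B :=
    D.B.mul_mem (D.B.mul_mem (D.B.inv_mem hc) (D.TB (D.wT t ht))) hc
  refine ⟨⟨b * t * b⁻¹, h1⟩, by rw [h2]; exact h3, ?_⟩
  have e1 : f ⟨b * t * b⁻¹, h1⟩ = f ⟨t, D.TB ht⟩ := by
    have : (⟨b * t * b⁻¹, h1⟩ : D.B) = ⟨b, hb⟩ * ⟨t, D.TB ht⟩ * (⟨b, hb⟩)⁻¹ := rfl
    rw [this, map_mul, map_mul, map_inv, mul_comm (f ⟨b, hb⟩), mul_inv_cancel_right]
  have e2 : f ⟨(b * D.w * c)⁻¹ * (b * t * b⁻¹) * (b * D.w * c), by rw [h2]; exact h3⟩ =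
      f ⟨D.w⁻¹ * t * D.w, D.TB (D.wT t ht)⟩ := by
    have : (⟨(b * D.w * c)⁻¹ * (b * t * b⁻¹) * (b * D.w * c), by rw [h2]; exact h3⟩ : D.B) =
        (⟨c, hc⟩)⁻¹ * ⟨D.w⁻¹ * t * D.w, D.TB (D.wT t ht)⟩ * ⟨c, hc⟩ := Subtype.ext h2
    rw [this, map_mul, map_mul, map_inv, mul_comm _ (f ⟨c, hc⟩), mul_inv_cancel_left]
  rw [e1, e2]
  exact hne

omit [Fintype G] in
theorem twist_B (f : D.B →* ℂˣ) [Fintype D.B] {x : G} (hx : x ∈ D.B) :
    twist D.B (fun b => (f b : ℂ)) (fun b => (f b : ℂ)) x = (Nat.card D.B : ℂ) := by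
  have hirr : IsIrrCharacter D.B (fun b => (f b : ℂ)) :=
    Cfsg.Agent.Characters.Linear.isIrrCharacter_hom f
  rw [twist_of_mem D.B _ _ (isIrr_isClassFunction hirr) x hx, classInner_irr_self hirr, mul_one]

theorem twist_cell (f : D.B →* ℂˣ) [Fintype D.B]
    (hf : ∀ t, ∀ ht : t ∈ D.T, f ⟨t, D.TB ht⟩ = f ⟨D.w⁻¹ * t * D.w, D.TB (D.wT t ht)⟩)
    {u b : G} (hu : u ∈ D.U) (hb : b ∈ D.B) :
    twist D.B (fun b => (f b : ℂ)) (fun b => (f b : ℂ)) (u * D.w * b) = (Nat.card D.T : ℂ) := by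
  classical
  have := Fintype.ofFinite D.T
  rw [twist_def]
  -- the terms
  have hterm : ∀ y : D.B, (f y : ℂ) * conj (extendByZero D.B (fun b => (f b : ℂ))
      ((u * D.w * b)⁻¹ * y * (u * D.w * b))) = if u⁻¹ * (y : G) * u ∈ D.T then 1 else 0 := by
    intro y
    split_ifs with h
    · have h1 : (u * D.w * b)⁻¹ * y * (u * D.w * b) = b⁻¹ * (D.w⁻¹ * (u⁻¹ * y * u) * D.w) * b := by
        group
      have h2 : b⁻¹ * (D.w⁻¹ * (u⁻¹ * y * u) * D.w) * b ∈ D.B :=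
        D.B.mul_mem (D.B.mul_mem (D.B.inv_mem hb) (D.TB (D.wT _ h))) hb
      rw [h1, ext_apply_mem D.B _ _ h2]
      have e1 : f ⟨b⁻¹ * (D.w⁻¹ * (u⁻¹ * y * u) * D.w) * b, h2⟩ = f ⟨u⁻¹ * y * u, D.TB h⟩ := by
        have : (⟨b⁻¹ * (D.w⁻¹ * (u⁻¹ * y * u) * D.w) * b, h2⟩ : D.B) =
            (⟨b, hb⟩)⁻¹ * ⟨D.w⁻¹ * (u⁻¹ * y * u) * D.w, D.TB (D.wT _ h)⟩ * ⟨b, hb⟩ := rfl
        rw [this, map_mul, map_mul, map_inv, mul_comm _ (f ⟨b, hb⟩), mul_inv_cancel_left, hf _ h]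
      have e2 : f y = f ⟨u⁻¹ * y * u, D.TB h⟩ := by
        have : (⟨u⁻¹ * y * u, D.TB h⟩ : D.B) = (⟨u, D.UB hu⟩)⁻¹ * y * ⟨u, D.UB hu⟩ := rfl
        rw [this, map_mul, map_mul, map_inv, mul_comm _ (f ⟨u, D.UB hu⟩), mul_inv_cancel_left]
      rw [e1, ← e2]
      exact mul_conj_hom f y
    · rw [ext_apply_not_mem, map_zero, mul_zero]
      exact fun h1 => h (D.mem_T_of_conj hb hu y.2 h1)
  rw [Finset.sum_congr rfl fun y _ => hterm y, Finset.sum_ite, Finset.sum_const_zero, add_zero,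
    Finset.sum_const, nsmul_eq_mul, mul_one]
  congr 1
  rw [Nat.card_eq_fintype_card, ← Finset.card_univ]
  refine Finset.card_bij' (fun y _ => if h : u⁻¹ * (y : G) * u ∈ D.T then ⟨_, h⟩ else 1)
    (fun t _ => ⟨u * t * u⁻¹, D.B.mul_mem (D.B.mul_mem (D.UB hu) (D.TB t.2))
      (D.B.inv_mem (D.UB hu))⟩) ?_ ?_ ?_ ?_
  · intro y _
    exact Finset.mem_univ _
  · intro t _
    rw [Finset.mem_filter]
    refine ⟨Finset.mem_univ _, ?_⟩
    show u⁻¹ * (u * (t : G) * u⁻¹) * u ∈ D.T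
    have : u⁻¹ * (u * (t : G) * u⁻¹) * u = t := by group
    rw [this]
    exact t.2
  · intro y hy
    rw [Finset.mem_filter] at hy
    apply Subtype.ext
    simp only [dif_pos hy.2]
    group
  · intro t _
    have h : u⁻¹ * (u * (t : G) * u⁻¹) * u = t := by group
    apply Subtype.ext
    have h' : u⁻¹ * (u * (t : G) * u⁻¹) * u ∈ D.T := by rw [h]; exact t.2
    rw [dif_pos h']
    exact h

/-- `f` is `w`-invariant: the norm of the principal series character is two. -/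
theorem norm_ps (f : D.B →* ℂˣ)
    (hf : ∀ t, ∀ ht : t ∈ D.T, f ⟨t, D.TB ht⟩ = f ⟨D.w⁻¹ * t * D.w, D.TB (D.wT t ht)⟩) :
    classInner (D.ps f) (D.ps f) = 2 := by
  classical
  have := Fintype.ofFinite D.U
  have := Fintype.ofFinite D.B
  rw [ps_def, classInner_indFun_indFun, D.sum_eq]
  rw [Finset.sum_congr rfl fun b _ => D.twist_B f b.2,
    Finset.sum_congr rfl fun u _ => Finset.sum_congr rfl fun b _ => D.twist_cell f hf u.2 b.2]
  simp only [Finset.sum_const, Finset.card_univ, nsmul_eq_mul, ← Nat.card_eq_fintype_card]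
  have hB : (Nat.card D.B : ℂ) ≠ 0 := card_ne_zero'
  have hB2 : (Nat.card D.B : ℂ) = Nat.card D.U * Nat.card D.T := by
    rw [D.card_B]; push_cast; ring
  have : (Nat.card D.U : ℂ) * (Nat.card D.B * Nat.card D.T) = Nat.card D.B * Nat.card D.B := by
    rw [hB2]; ring
  rw [this]
  field_simp
  norm_num

/-- Restriction to `U`. -/
theorem inner_U [Fintype D.U] (f : D.B →* ℂˣ) (hf : ∀ b : D.B, (b : G) ∈ D.U → f b = 1)
    (θ : D.U →* ℂˣ) (hθ : θ ≠ 1) :
    classInner (fun u : D.U => D.ps f u) (fun u => (θ u : ℂ)) = 1 := by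
  classical
  rw [classInner_def]
  have h1 : ∀ u : D.U, D.ps f u * conj (θ u : ℂ) =
      (if u = 1 then (Nat.card D.U : ℂ) else 0) + conj (θ u : ℂ) := by
    intro u
    split_ifs with h
    · rw [h, Subgroup.coe_one, D.ps_one, map_one, Units.val_one, map_one, mul_one]
    · rw [D.ps_U f hf u.2 (fun h' => h (Subtype.ext h')), one_mul, zero_add]
  rw [Finset.sum_congr rfl fun u _ => h1 u, Finset.sum_add_distrib, Finset.sum_ite_eq' Finset.univ,
    if_pos (Finset.mem_univ _)]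
  have h2 : ∑ u : D.U, conj (θ u : ℂ) = 0 := by
    rw [← map_sum]
    have h3 := classInner_irr_ne (Cfsg.Agent.Characters.Linear.isIrrCharacter_hom θ)
      (isIrr_one (G := D.U)) (by
        intro h
        apply hθ
        ext u
        have := congrFun h u
        simpa using this)
    rw [classInner_def] at h3
    simp only [Pi.one_apply, map_one, mul_one] at h3
    have h4 := (mul_eq_zero.1 h3).resolve_left (inv_ne_zero card_ne_zero')
    rw [h4, map_zero]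
  rw [h2, add_zero]
  exact inv_mul_cancel₀ card_ne_zero'

theorem inner_U_one [Fintype D.U] (f : D.B →* ℂˣ) (hf : ∀ b : D.B, (b : G) ∈ D.U → f b = 1) :
    classInner (fun u : D.U => D.ps f u) 1 = 2 := by
  classical
  rw [classInner_def]
  have h1 : ∀ u : D.U, D.ps f u * conj ((1 : D.U → ℂ) u) =
      (if u = 1 then (Nat.card D.U : ℂ) else 0) + 1 := by
    intro u
    rw [Pi.one_apply, map_one, mul_one]
    split_ifs with h
    · rw [h, Subgroup.coe_one, D.ps_one]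
    · rw [D.ps_U f hf u.2 (fun h' => h (Subtype.ext h')), zero_add]
  rw [Finset.sum_congr rfl fun u _ => h1 u, Finset.sum_add_distrib, Finset.sum_ite_eq' Finset.univ,
    if_pos (Finset.mem_univ _)]
  simp only [Finset.sum_const, Finset.card_univ, nsmul_eq_mul, mul_one, ← Nat.card_eq_fintype_card]
  have h : (Nat.card D.U : ℂ) ≠ 0 := card_ne_zero'
  field_simp
  norm_num

end ps

end Split

end Cfsg.Agent.H664.R1
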