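import Cfsg.Agent.H664.R1.U3Model
import Cfsg.Agent.H664.R1.SplitSub
import Cfsg.Agent.H664.R1.QuotTools
import Cfsg.Agent.LieClassical.HermBasic

/-!
# The unitary group of dimension three over a finite field: orders and actions (helper664)
-/

set_option autoImplicit false
set_option linter.unusedSimpArgs false
set_option linter.unusedSectionVars false

namespace Cfsg.Agent.H664.R1.U3

open Matrix Cfsg Cfsg.Agent.LieRecognition.PSUThreeSylow Cfsg.Agent.LieClassical.HermBasic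

section general

variable {F : Type*} [Field F] {σ : F →+* F} [hσ : Fact (∀ x, σ (σ x) = x)]

/-- The root subgroup of transvections. -/
def Ze (σ : F →+* F) [hσ : Fact (∀ x, σ (σ x) = x)] : Subgroup (GUJ σ) where
  carrier := {g | g ∈ Un σ ∧ mat σ g 0 1 = 0}
  mul_mem' := by
    rintro g h ⟨hg, h1⟩ ⟨hh, k1⟩
    refine ⟨(Un σ).mul_mem hg hh, ?_⟩
    rw [mul_entry, h1, k1, hh.1.2.2]
    ring
  one_mem' := ⟨(Un σ).one_mem, rfl⟩
  inv_mem' := by
    rintro g ⟨hg, h1⟩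
    refine ⟨(Un σ).inv_mem hg, ?_⟩
    obtain ⟨a, b, h, rfl⟩ := exists_un hg
    rw [inv_entry, mat_un]
    rw [mat_un] at h1
    simp at h1 ⊢
    exact h1

theorem mem_Ze {g : GUJ σ} : g ∈ Ze σ ↔ g ∈ Un σ ∧ mat σ g 0 1 = 0 := Iff.rfl

theorem Ze_le : Ze σ ≤ Un σ := fun _ h => h.1

/-- The scalars. -/
def Sc (σ : F →+* F) [hσ : Fact (∀ x, σ (σ x) = x)] : Subgroup (GUJ σ) where
  carrier := {g | g ∈ To σ ∧ mat σ g 0 0 = mat σ g 1 1 ∧ mat σ g 1 1 = mat σ g 2 2}
  mul_mem' := by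
    rintro g h ⟨hg, h1, h2⟩ ⟨hh, k1, k2⟩
    refine ⟨(To σ).mul_mem hg hh, ?_, ?_⟩
    all_goals
      obtain ⟨⟨a1, a2, a3⟩, a4, a5, a6⟩ := hg
      obtain ⟨⟨b1, b2, b3⟩, b4, b5, b6⟩ := hh
      rw [mul_entry, mul_entry]
      simp [a1, a2, a3, a4, a5, a6, b1, b2, b3, b4, b5, b6, h1, h2, k1, k2]
  one_mem' := ⟨(To σ).one_mem, rfl, rfl⟩
  inv_mem' := by
    rintro g ⟨hg, h1, h2⟩
    refine ⟨(To σ).inv_mem hg, ?_, ?_⟩ <;> rw [inv_entry] <;> simp [h1, h2]

theorem mem_Sc {g : GUJ σ} :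
    g ∈ Sc σ ↔ g ∈ To σ ∧ mat σ g 0 0 = mat σ g 1 1 ∧ mat σ g 1 1 = mat σ g 2 2 := Iff.rfl

theorem Sc_le : Sc σ ≤ To σ := fun _ h => h.1

theorem Sc_comm {z : GUJ σ} (hz : z ∈ Sc σ) (g : GUJ σ) : z * g = g * z := by
  obtain ⟨⟨⟨a1, a2, a3⟩, a4, a5, a6⟩, h1, h2⟩ := hz
  apply mat_inj
  ext i j
  rw [mul_entry, mul_entry]
  fin_cases i <;> fin_cases j <;>
    simp [a1, a2, a3, a4, a5, a6, h1, h2, mul_comm]

instance Sc_normal : (Sc σ).Normal := ⟨fun z hz g => by
  rw [← Sc_comm hz g, mul_inv_cancel_right]; exact hz⟩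

/-- Elements of determinant one. -/
def SUs (σ : F →+* F) : Subgroup (GUJ σ) where
  carrier := {g | (mat σ g).det = 1}
  mul_mem' := by
    intro g h hg hh
    show (mat σ (g * h)).det = 1
    rw [mat_mul, Matrix.det_mul, show (mat σ g).det = 1 from hg, show (mat σ h).det = 1 from hh,
      one_mul]
  one_mem' := by
    show (mat σ 1).det = 1
    rw [mat_one, Matrix.det_one]
  inv_mem' := by
    intro g hg
    show (mat σ g⁻¹).det = 1
    have h1 : mat σ g * mat σ g⁻¹ = 1 := by rw [← mat_mul, mul_inv_cancel, mat_one]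
    have h2 := congrArg Matrix.det h1
    rw [Matrix.det_mul, show (mat σ g).det = 1 from hg, one_mul, Matrix.det_one] at h2
    exact h2

omit hσ in
theorem mem_SUs {g : GUJ σ} : g ∈ SUs σ ↔ (mat σ g).det = 1 := Iff.rfl

instance SUs_normal : (SUs σ).Normal := ⟨fun z hz g => by
  rw [mem_SUs] at hz ⊢
  have h1 : mat σ g * mat σ g⁻¹ = 1 := by rw [← mat_mul, mul_inv_cancel, mat_one]
  have h2 := congrArg Matrix.det h1
  rw [Matrix.det_mul, Matrix.det_one] at h2
  rw [mat_mul, mat_mul, Matrix.det_mul, Matrix.det_mul, hz, mul_one, h2]⟩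

theorem det_of_Up {g : GUJ σ} (hg : g ∈ Bo σ) :
    (mat σ g).det = mat σ g 0 0 * mat σ g 1 1 * mat σ g 2 2 := by
  obtain ⟨h1, h2, h3⟩ := hg
  rw [Matrix.det_fin_three, h1, h2, h3]
  ring

theorem Un_le_SUs : Un σ ≤ SUs σ := by
  intro g hg
  rw [mem_SUs, det_of_Up hg.1, hg.2.1, hg.2.2.1, hg.2.2.2]
  ring

/-- The Weyl element of determinant one. -/
def wel' (σ : F →+* F) [hσ : Fact (∀ x, σ (σ x) = x)] : GUJ σ :=
  dg (1 : F) (-1) one_ne_zero (by rw [map_neg, map_one]; ring) * wel σ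

theorem mat_wel' : mat σ (wel' σ) = !![0, 0, 1; 0, -1, 0; 1, 0, 0] := by
  rw [wel', mat_mul, mat_dg, mat_wel]
  ext i j
  rw [mul_Jm']
  fin_cases i <;> fin_cases j <;> simp

theorem wel'_mem : wel' σ ∈ SUs σ := by
  rw [mem_SUs, mat_wel', Matrix.det_fin_three]
  simp

/-- The same split BN pair, with the Weyl element of determinant one. -/
def split' (σ : F →+* F) [hσ : Fact (∀ x, σ (σ x) = x)] : Split (GUJ σ) where
  B := Bo σ
  U := Un σ
  T := To σ
  w := wel' σ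
  UB := (split σ).UB
  TB := (split σ).TB
  nU := (split σ).nU
  dec := (split σ).dec
  disj := (split σ).disj
  comm := (split σ).comm
  wT := by
    intro t ht
    have h1 := (split σ).wT t ht
    have h2 : (wel' σ)⁻¹ * t * wel' σ = (wel σ)⁻¹ * t * wel σ := by
      set z := dg (1 : F) (-1) one_ne_zero (show (-1 : F) * σ (-1) = 1 by rw [map_neg, map_one]; ring)
        with hz
      have h3 : z⁻¹ * t * z = t := by
        have := (split σ).comm t ht z (dg_mem _ _ _ _)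
        rw [mul_assoc, this, inv_mul_cancel_left]
      calc (wel' σ)⁻¹ * t * wel' σ = (wel σ)⁻¹ * (z⁻¹ * t * z) * wel σ := by
            rw [wel', ← hz]; group
        _ = _ := by rw [h3]
    rw [h2]
    exact h1
  wT' := by
    intro t ht
    have h1 := (split σ).wT' t ht
    set z := dg (1 : F) (-1) one_ne_zero (show (-1 : F) * σ (-1) = 1 by rw [map_neg, map_one]; ring)
      with hz
    have h2 : wel' σ * t * (wel' σ)⁻¹ = z * (wel σ * t * (wel σ)⁻¹) * z⁻¹ := by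
      rw [wel', ← hz]; group
    rw [h2]
    exact (To σ).mul_mem ((To σ).mul_mem (dg_mem _ _ _ _) h1) ((To σ).inv_mem (dg_mem _ _ _ _))
  cap := by
    intro b hb h
    set z := dg (1 : F) (-1) one_ne_zero (show (-1 : F) * σ (-1) = 1 by rw [map_neg, map_one]; ring)
      with hz
    have hzT : z ∈ To σ := dg_mem _ _ _ _
    have h1 : (wel σ)⁻¹ * (z⁻¹ * b * z) * wel σ ∈ Bo σ := by
      have : (wel σ)⁻¹ * (z⁻¹ * b * z) * wel σ = (wel' σ)⁻¹ * b * wel' σ := by
        rw [wel', ← hz]; group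
      rw [this]
      exact h
    have h2 := (split σ).cap _ ((Bo σ).mul_mem ((Bo σ).mul_mem ((Bo σ).inv_mem hzT.1) hb) hzT.1) h1
    have h3 : b = z * (z⁻¹ * b * z) * z⁻¹ := by group
    rw [h3]
    exact (To σ).mul_mem ((To σ).mul_mem hzT h2) ((To σ).inv_mem hzT)
  big := by
    intro x hx
    obtain ⟨b, hb, c, hc, h⟩ := (split σ).big x hx
    set z := dg (1 : F) (-1) one_ne_zero (show (-1 : F) * σ (-1) = 1 by rw [map_neg, map_one]; ring)
      with hz
    have hzT : z ∈ To σ := dg_mem _ _ _ _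
    refine ⟨b * z⁻¹, (Bo σ).mul_mem hb ((Bo σ).inv_mem hzT.1), c, hc, ?_⟩
    rw [h, wel', ← hz]
    show b * wel σ * c = b * z⁻¹ * (z * wel σ) * c
    group
  wB := by
    rintro ⟨-, h, -⟩
    rw [mat_wel'] at h
    simp at h

theorem wel'_conj_dg (t s : F) (ht : t ≠ 0) (hs : s * σ s = 1) :
    (wel' σ)⁻¹ * dg t s ht hs * wel' σ =
      dg (σ t)⁻¹ s (inv_ne_zero ((map_ne_zero σ).2 ht)) hs := by
  have h0 : dg t s ht hs * wel' σ = wel' σ * dg (σ t)⁻¹ s (inv_ne_zero ((map_ne_zero σ).2 ht)) hs := by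
    apply mat_inj
    rw [mat_mul, mat_mul, mat_wel', mat_dg, mat_dg]
    ext i j
    fin_cases i <;> fin_cases j <;>
      simp [Matrix.mul_apply, Fin.sum_univ_three, hσ.out]
  rw [mul_assoc, h0]
  group

theorem dg_mul (t s t' s' : F) (ht : t ≠ 0) (hs : s * σ s = 1) (ht' : t' ≠ 0) (hs' : s' * σ s' = 1) :
    dg t s ht hs * dg t' s' ht' hs' = dg (t * t') (s * s') (mul_ne_zero ht ht')
      (by rw [map_mul]; linear_combination (s' * σ s') * hs + hs') := by
  apply mat_inj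
  rw [mat_mul, mat_dg, mat_dg, mat_dg]
  ext i j
  fin_cases i <;> fin_cases j <;>
    simp [Matrix.mul_apply, Fin.sum_univ_three, mul_comm]

/-- Conjugation of unipotent elements by the torus. -/
theorem dg_conj_un (t s : F) (ht : t ≠ 0) (hs : s * σ s = 1) (a b : F)
    (h : b + σ b + a * σ a = 0) (h' : (t * σ t * b) + σ (t * σ t * b) + (t * σ s * a) *
      σ (t * σ s * a) = 0) :
    dg t s ht hs * un a b h * (dg t s ht hs)⁻¹ = un (t * σ s * a) (t * σ t * b) h' := by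
  rw [mul_inv_eq_iff_eq_mul]
  apply mat_inj
  rw [mat_mul, mat_mul, mat_dg, mat_un, mat_un]
  have h0 : σ t ≠ 0 := (map_ne_zero σ).2 ht
  ext i j
  fin_cases i <;> fin_cases j <;>
    simp [Matrix.mul_apply, Fin.sum_univ_three, hσ.out]
  · linear_combination -(t * a) * hs
  · field_simp
  · field_simp

theorem conj_rel {t s a b : F} (hs : s * σ s = 1) (h : b + σ b + a * σ a = 0) :
    (t * σ t * b) + σ (t * σ t * b) + (t * σ s * a) * σ (t * σ s * a) = 0 := by
  simp only [map_mul, hσ.out]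
  linear_combination (t * σ t) * h + (t * σ t * a * σ a) * hs

end general

end Cfsg.Agent.H664.R1.U3
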