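import Cfsg.Agent.H664.R1.U3Facts
import Cfsg.Agent.H198.GUThreeCount

/-!
# The unitary group of dimension three over a finite field: orders (helper664)
-/

set_option autoImplicit false
set_option linter.unusedSimpArgs false
set_option linter.unusedSectionVars false

namespace Cfsg.Agent.H664.R1.U3

open Matrix Cfsg Cfsg.Agent.LieRecognition.PSUThreeSylow Cfsg.Agent.LieClassical.HermBasic

variable {F : Type*} [Field F] [Fintype F] {q : ℕ} {σ : F →+* F} [hσ : Fact (∀ x, σ (σ x) = x)]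

/-- The trace. -/
def tr (σ : F →+* F) : F →+ F where
  toFun b := b + σ b
  map_zero' := by simp
  map_add' a b := by rw [map_add]; ring

theorem tr_apply (b : F) : tr σ b = b + σ b := rfl

theorem card_tr_ker (hF : Fintype.card F = q ^ 2) (hs : ∀ x, σ x = x ^ q) :
    Nat.card (tr σ).ker = q := by
  have h1 : Nat.card (tr σ).range = q := by
    rw [← card_fixed hF]
    refine Nat.card_congr (Equiv.subtypeEquivRight fun c => ?_)
    rw [AddMonoidHom.mem_range]
    constructor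
    · rintro ⟨b, rfl⟩
      rw [tr_apply, ← hs, map_add, hσ.out, add_comm]
    · intro hc
      obtain ⟨b, hb⟩ := exists_trace_eq hF hc
      exact ⟨b, by rw [tr_apply, hs, hb]⟩
  have h2 := AddSubgroup.card_eq_card_quotient_mul_card_addSubgroup (tr σ).ker
  rw [Nat.card_congr (QuotientAddGroup.quotientKerEquivRange (tr σ)).toEquiv, h1,
    Nat.card_eq_fintype_card, hF, sq] at h2
  exact (Nat.eq_of_mul_eq_mul_left (q_pos hF) h2).symm

/-- The fibres of the trace. -/
theorem card_tr_fiber (hF : Fintype.card F = q ^ 2) (hs : ∀ x, σ x = x ^ q) {c : F} (hc : σ c = c) :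
    Nat.card {b : F // b + σ b = c} = q := by
  obtain ⟨b0, hb0⟩ := exists_trace_eq hF (by rw [← hs]; exact hc : c ^ q = c)
  rw [← hs] at hb0
  rw [← card_tr_ker hF hs]
  refine Nat.card_congr ⟨fun b => ⟨b.1 - b0, ?_⟩, fun k => ⟨k.1 + b0, ?_⟩, fun b => ?_, fun k => ?_⟩
  · rw [AddMonoidHom.mem_ker, tr_apply, map_sub]
    linear_combination b.2 - hb0
  · have := k.2
    rw [AddMonoidHom.mem_ker, tr_apply] at this
    rw [map_add]
    linear_combination this + hb0
  · exact Subtype.ext (by show b.1 - b0 + b0 = b.1; ring)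
  · exact Subtype.ext (by show k.1 + b0 - b0 = k.1; ring)

/-- Coordinates of the unipotent radical. -/
noncomputable def unEquiv (σ : F →+* F) [hσ : Fact (∀ x, σ (σ x) = x)] :
    (Σ a : F, {b : F // b + σ b = -(a * σ a)}) ≃ Un σ :=
  Equiv.ofBijective (fun p => ⟨un p.1 p.2.1 (by rw [p.2.2]; ring), un_mem _ _ _⟩) (by
    constructor
    · rintro ⟨a, b, hb⟩ ⟨a', b', hb'⟩ h
      have h1 := congrArg (fun g : Un σ => mat σ (g : GUJ σ)) h
      simp only [mat_un] at h1
      have h2 : a = a' := by simpa using congrFun (congrFun h1 0) 1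
      have h3 : b = b' := by simpa using congrFun (congrFun h1 0) 2
      subst h2
      subst h3
      rfl
    · rintro ⟨g, hg⟩
      obtain ⟨a, b, h, rfl⟩ := exists_un hg
      exact ⟨⟨a, b, by linear_combination h⟩, rfl⟩)

theorem card_Un (hF : Fintype.card F = q ^ 2) (hs : ∀ x, σ x = x ^ q) :
    Nat.card (Un σ) = q ^ 3 := by
  rw [← Nat.card_congr (unEquiv σ), Nat.card_sigma]
  have h : ∀ a : F, Nat.card {b : F // b + σ b = -(a * σ a)} = q := fun a =>
    card_tr_fiber hF hs (by rw [map_neg, map_mul, hσ.out, mul_comm])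
  rw [Finset.sum_congr rfl fun a _ => h a, Finset.sum_const, Finset.card_univ, hF, smul_eq_mul]
  ring

theorem card_Ze (hF : Fintype.card F = q ^ 2) (hs : ∀ x, σ x = x ^ q) :
    Nat.card (Ze σ) = q := by
  rw [← card_tr_fiber (σ := σ) hF hs (c := 0) (map_zero σ)]
  refine (Nat.card_congr (Equiv.ofBijective (fun b : {b : F // b + σ b = 0} =>
    (⟨un 0 b.1 (by rw [b.2]; simp), un_mem _ _ _, rfl⟩ : Ze σ)) ⟨?_, ?_⟩)).symm
  · rintro ⟨b, hb⟩ ⟨b', hb'⟩ h
    have h1 := congrArg (fun g : Ze σ => mat σ (g : GUJ σ)) h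
    simp only [mat_un] at h1
    exact Subtype.ext (by simpa using congrFun (congrFun h1 0) 2)
  · rintro ⟨g, hg, h0⟩
    obtain ⟨a, b, h, rfl⟩ := exists_un hg
    rw [mat_un] at h0
    have h1 : a = 0 := by simpa using h0
    subst h1
    exact ⟨⟨b, by simpa using h⟩, rfl⟩

theorem card_norm_one (hF : Fintype.card F = q ^ 2) (hs : ∀ x, σ x = x ^ q) :
    Nat.card {s : F // s * σ s = 1} = q + 1 := by
  rw [← card_norm_eq_one hF]
  exact Nat.card_congr (Equiv.subtypeEquivRight fun s => by rw [hs])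

theorem card_To (hF : Fintype.card F = q ^ 2) (hs : ∀ x, σ x = x ^ q) :
    Nat.card (To σ) = (q ^ 2 - 1) * (q + 1) := by
  have h1 : Nat.card {t : F // t ≠ 0} = q ^ 2 - 1 := by
    classical
    rw [Nat.card_eq_fintype_card, Fintype.card_subtype_compl, Fintype.card_subtype_eq, hF]
  rw [← h1, ← card_norm_one hF hs, ← Nat.card_prod]
  refine (Nat.card_congr (Equiv.ofBijective (fun p : {t : F // t ≠ 0} × {s : F // s * σ s = 1} =>
    (⟨dg p.1.1 p.2.1 p.1.2 p.2.2, dg_mem _ _ _ _⟩ : To σ)) ⟨?_, ?_⟩)).symm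
  · rintro ⟨⟨t, ht⟩, s, hs'⟩ ⟨⟨t', ht'⟩, s', hs''⟩ h
    have h1 := congrArg (fun g : To σ => mat σ (g : GUJ σ)) h
    simp only [mat_dg] at h1
    have h2 : t = t' := by simpa using congrFun (congrFun h1 0) 0
    have h3 : s = s' := by simpa using congrFun (congrFun h1 1) 1
    subst h2
    subst h3
    rfl
  · rintro ⟨g, hg⟩
    obtain ⟨t, s, ht, hs', rfl⟩ := exists_dg hg
    exact ⟨(⟨t, ht⟩, ⟨s, hs'⟩), rfl⟩

theorem card_Sc (hF : Fintype.card F = q ^ 2) (hs : ∀ x, σ x = x ^ q) :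
    Nat.card (Sc σ) = q + 1 := by
  rw [← card_norm_one (σ := σ) hF hs]
  have hne : ∀ s : F, s * σ s = 1 → s ≠ 0 := fun s h => left_ne_zero_of_mul_eq_one h
  refine (Nat.card_congr (Equiv.ofBijective (fun p : {s : F // s * σ s = 1} =>
    (⟨dg p.1 p.1 (hne _ p.2) p.2, dg_mem _ _ _ _, rfl, by
      rw [mat_dg]
      show p.1 = (σ p.1)⁻¹
      exact eq_inv_of_mul_eq_one_left p.2⟩ : Sc σ)) ⟨?_, ?_⟩)).symm
  · rintro ⟨s, hs'⟩ ⟨s', hs''⟩ h
    have h1 := congrArg (fun g : Sc σ => mat σ (g : GUJ σ)) h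
    simp only [mat_dg] at h1
    exact Subtype.ext (by simpa using congrFun (congrFun h1 1) 1)
  · rintro ⟨g, hg, h1, h2⟩
    obtain ⟨t, s, ht, hs', rfl⟩ := exists_dg hg
    rw [mat_dg] at h1
    have h3 : t = s := by simpa using h1
    subst h3
    exact ⟨⟨t, hs'⟩, rfl⟩

/-- The projective unitary group. -/
abbrev PG (σ : F →+* F) [hσ : Fact (∀ x, σ (σ x) = x)] := GUJ σ ⧸ Sc σ

/-- The projection. -/
abbrev pr (σ : F →+* F) [hσ : Fact (∀ x, σ (σ x) = x)] : GUJ σ →* PG σ := QuotientGroup.mk' (Sc σ)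

/-- The split BN pair of the projective unitary group. -/
def spP (σ : F →+* F) [hσ : Fact (∀ x, σ (σ x) = x)] : Split (PG σ) := (split' σ).quot (Sc σ) Sc_le

theorem card_TP (hF : Fintype.card F = q ^ 2) (hs : ∀ x, σ x = x ^ q) :
    Nat.card (spP σ).T = q ^ 2 - 1 := by
  have h := card_map_mk (Sc σ) (To σ) Sc_le
  rw [card_To hF hs, card_Sc hF hs] at h
  exact Nat.eq_of_mul_eq_mul_right (Nat.succ_pos q) h

theorem Un_disj {u : GUJ σ} (hu : u ∈ Un σ) (hz : u ∈ Sc σ) : u = 1 :=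
  (split' σ).disj u hu (Sc_le hz)

theorem card_UP (hF : Fintype.card F = q ^ 2) (hs : ∀ x, σ x = x ^ q) :
    Nat.card (spP σ).U = q ^ 3 := by
  rw [← card_Un (σ := σ) hF hs]
  exact card_map_mk_of_disj (Sc σ) (Un σ) fun h hh hz => Un_disj hh hz

/-- The root subgroup in the projective group. -/
def XP (σ : F →+* F) [hσ : Fact (∀ x, σ (σ x) = x)] : Subgroup (PG σ) := (Ze σ).map (pr σ)

theorem XP_le : XP σ ≤ (spP σ).U := Subgroup.map_mono Ze_le

theorem card_XP (hF : Fintype.card F = q ^ 2) (hs : ∀ x, σ x = x ^ q) :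
    Nat.card (XP σ) = q := by
  rw [← card_Ze (σ := σ) hF hs]
  exact card_map_mk_of_disj (Sc σ) (Ze σ) fun h hh hz => Un_disj (Ze_le hh) hz

/-- The class number of the projective group. -/
theorem card_classes_PG (hF : Fintype.card F = q ^ 2) (hq : 3 ≤ q) (hs : ∀ x, σ x = x ^ q) :
    q ^ 2 + q + 2 ≤ Nat.card (ConjClasses (PG σ)) := by
  have h1 := H198.GUThreeCount.card_classes (σ := σ) hF hq hs
  have h2 := card_classes_le (Sc σ)
  rw [card_Sc hF hs] at h2
  exact Nat.le_of_mul_le_mul_left (h1.trans h2) (Nat.succ_pos q)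

end Cfsg.Agent.H664.R1.U3
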