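import Cfsg.Agent.H664.R1.U3Graph
import Cfsg.Agent.H664.R1.RankMore

/-!
# `PSU(3,4)` has an irreducible character of degree divisible by `39` (helper664)
-/

set_option autoImplicit false
set_option linter.unusedSimpArgs false
set_option linter.unusedSectionVars false

namespace Cfsg.Agent.H664.R1.U3

open Matrix Cfsg Cfsg.Agent.LieRecognition.PSUThreeSylow Cfsg.Agent.LieClassical.HermBasic
open Cfsg.Agent.H681.DegBasic
open scoped ComplexConjugate

section theta

variable {F : Type*} [Field F] [Fintype F] {q : ℕ} {σ : F →+* F} [hσ : Fact (∀ x, σ (σ x) = x)]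

/-- A nontrivial linear character of the unipotent radical, moved by the torus. -/
theorem exists_theta (hF : Fintype.card F = q ^ 2) (hs : ∀ x, σ x = x ^ q) :
    ∃ θ : (spP σ).U →* ℂˣ, θ ≠ 1 ∧ (∀ x : (spP σ).U, (x : PG σ) ∈ XP σ → θ x = 1) ∧
      ∀ t, t ∈ (spP σ).T → t ≠ 1 →
        ∃ (v : (spP σ).U) (h : t⁻¹ * (v : PG σ) * t ∈ (spP σ).U), θ v ≠ θ ⟨_, h⟩ := by
  classical
  -- a nontrivial additive character
  obtain ⟨ψ, -, hψ⟩ := OddOrderCharacters.PrimeTI.exists_hom_ne_one
    (G := Multiplicative F) ⟨⟨fun a b => mul_comm a b⟩⟩ ⊥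
    (w := Multiplicative.ofAdd (1 : F)) (by
      rw [Subgroup.mem_bot]
      intro h
      have : (1 : F) = 0 := congrArg Multiplicative.toAdd h
      exact one_ne_zero this)
  obtain ⟨θ, hθ⟩ := exists_liftHom (Sc σ) (Un σ) (ψ.comp (coord σ)) (by
    intro b hb
    have : b = 1 := Subtype.ext (Un_disj b.2 hb)
    rw [this, map_one])
  have hθ' : ∀ (a b : F) (h : b + σ b + a * σ a = 0),
      θ ⟨pr σ (un a b h), _, un_mem _ _ _, rfl⟩ = ψ (Multiplicative.ofAdd a) := by
    intro a b h
    have := hθ ⟨un a b h, un_mem _ _ _⟩ ⟨un a b h, un_mem _ _ _, rfl⟩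
    rw [this]
    rfl
  refine ⟨θ, ?_, ?_, ?_⟩
  · intro h
    obtain ⟨b, hb⟩ := exists_snd (σ := σ) hF hs 1
    apply hψ
    rw [← hθ' 1 b hb, h]
    rfl
  · rintro ⟨x, hxU⟩ ⟨z, ⟨hz, h0⟩, hzx⟩
    obtain ⟨a, b, h, rfl⟩ := exists_un hz
    rw [mat_un] at h0
    have ha : a = 0 := by simpa using h0
    subst ha
    have e := hθ' 0 b h
    have : (⟨x, hxU⟩ : (spP σ).U) = ⟨pr σ (un 0 b h), _, un_mem _ _ _, rfl⟩ := Subtype.ext hzx.symm
    rw [this]
    exact e.trans (map_one ψ)
  · rintro _ ⟨g, hg, rfl⟩ hne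
    obtain ⟨t, s, ht, hs', rfl⟩ := exists_dg hg
    have hs0 : s ≠ 0 := left_ne_zero_of_mul_eq_one hs'
    have hc : t * σ s ≠ 1 := by
      intro h
      apply hne
      have h1 : t = s := by
        have : t * (s * σ s) = s := by linear_combination s * h
        rwa [hs', mul_one] at this
      subst h1
      refine (QuotientGroup.eq_one_iff _).2 ⟨dg_mem _ _ _ _, rfl, ?_⟩
      rw [mat_dg]
      show t = (σ t)⁻¹
      exact eq_inv_of_mul_eq_one_left hs'
    set a : F := 1 / (t * σ s - 1) with ha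
    obtain ⟨b, hb⟩ := exists_snd (σ := σ) hF hs a
    have hconj := dg_conj_un t s ht hs' a b hb (conj_rel hs' hb)
    set v := un (t * σ s * a) (t * σ t * b) (conj_rel hs' hb) with hv
    have hvU : pr σ v ∈ (spP σ).U := ⟨v, un_mem _ _ _, rfl⟩
    have h2 : (pr σ (dg t s ht hs'))⁻¹ * pr σ v * pr σ (dg t s ht hs') = pr σ (un a b hb) := by
      rw [← hconj, ← map_inv, ← map_mul, ← map_mul]
      congr 1
      group
    have hmem : (pr σ (dg t s ht hs'))⁻¹ * pr σ v * pr σ (dg t s ht hs') ∈ (spP σ).U := by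
      rw [h2]
      exact ⟨_, un_mem _ _ _, rfl⟩
    refine ⟨⟨pr σ v, hvU⟩, hmem, ?_⟩
    have e1 : θ ⟨pr σ v, hvU⟩ = ψ (Multiplicative.ofAdd (t * σ s * a)) := hθ' _ _ _
    have e2 : θ ⟨(pr σ (dg t s ht hs'))⁻¹ * pr σ v * pr σ (dg t s ht hs'), hmem⟩ =
        ψ (Multiplicative.ofAdd a) := by
      rw [← hθ' a b hb]
      congr 1
      exact Subtype.ext h2
    show θ ⟨pr σ v, hvU⟩ ≠
      θ ⟨(pr σ (dg t s ht hs'))⁻¹ * pr σ v * pr σ (dg t s ht hs'), hmem⟩
    rw [e1, e2]
    intro h
    apply hψ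
    have h3 : Multiplicative.ofAdd (1 : F) = Multiplicative.ofAdd (t * σ s * a) *
        (Multiplicative.ofAdd a)⁻¹ := by
      apply Multiplicative.toAdd.injective
      show (1 : F) = t * σ s * a + -a
      have h4 : t * σ s - 1 ≠ 0 := sub_ne_zero.2 hc
      rw [ha]
      field_simp
      ring
    rw [h3, map_mul, map_inv, h, mul_inv_cancel]

end theta

section four

variable {F : Type*} [Field F] [Fintype F] {σ : F →+* F} [hσ : Fact (∀ x, σ (σ x) = x)]

/-- `PSU(3,4) = PGU(3,4)`. -/
theorem S_eq_top (hs : ∀ x, σ x = x ^ 4) : S σ = ⊤ := by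
  rw [eq_top_iff]
  rintro x -
  obtain ⟨g, rfl⟩ := QuotientGroup.mk'_surjective (Sc σ) x
  set d := (mat σ g).det with hd
  have h1 : d * σ d = 1 := det_norm (mat_spec g)
  have h5 : d ^ 5 = 1 := by
    rw [hs] at h1
    linear_combination h1
  have hd0 : d ≠ 0 := left_ne_zero_of_mul_eq_one h1
  have hc : d ^ 3 * σ (d ^ 3) = 1 := by
    rw [map_pow, ← mul_pow, h1, one_pow]
  refine ⟨g * dg (d ^ 3) (d ^ 3) (pow_ne_zero 3 hd0) hc, ?_, ?_⟩
  · show (mat σ (g * _)).det = 1
    rw [mat_mul, Matrix.det_mul, det_of_Up (dg_mem _ _ _ _).1, ← hd, mat_dg]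
    have h2 : (σ (d ^ 3))⁻¹ = d ^ 3 := inv_eq_of_mul_eq_one_left hc
    show d * (d ^ 3 * d ^ 3 * (σ (d ^ 3))⁻¹) = 1
    rw [h2]
    have h3 : d * (d ^ 3 * d ^ 3 * d ^ 3) = (d ^ 5) ^ 2 := by ring
    rw [h3, h5, one_pow]
  · show pr σ (g * _) = pr σ g
    have hz : pr σ (dg (d ^ 3) (d ^ 3) (pow_ne_zero 3 hd0) hc) = 1 := by
      refine (QuotientGroup.eq_one_iff _).2 ⟨dg_mem _ _ _ _, rfl, ?_⟩
      rw [mat_dg]
      show d ^ 3 = (σ (d ^ 3))⁻¹
      exact eq_inv_of_mul_eq_one_left hc
    rw [map_mul, hz, mul_one]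

/-- The number of invariant characters. -/
theorem card_Inv_four (hF : Fintype.card F = 4 ^ 2) (hs : ∀ x, σ x = x ^ 4) :
    Nat.card {f : (spP σ).B →* ℂˣ // (spP σ).Inv f} = 5 := by
  have := finite_Inv (σ := σ) hs
  refine le_antisymm (card_Inv (σ := σ) hs) ?_
  obtain ⟨lam, h1, x, hx⟩ := exists_lam hF (by norm_num)
  have hpow : ∀ j : ℕ, ∀ y, (lam ^ j) (y ^ (4 + 1)) = 1 := by
    intro j y
    rw [MonoidHom.pow_apply, h1, one_pow]
  have hex : ∀ j : Fin 5, ∃ f : {f : (spP σ).B →* ℂˣ // (spP σ).Inv f}, ∀ y : Fˣ,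
      f.1 (del σ y) = (lam y) ^ (j : ℕ) := by
    intro j
    obtain ⟨f, hfU, hf⟩ := exists_linP (σ := σ) (lam ^ (j : ℕ))
    refine ⟨⟨f, inv_of_lam hs (hpow j) hfU hf⟩, fun y => ?_⟩
    have h2 := hf (y : F) 1 y.ne_zero (by rw [map_one, one_mul]) (del σ y).2
    have h3 : Units.mk0 ((y : F) * σ 1) (mul_ne_zero y.ne_zero ((map_ne_zero σ).2
        (left_ne_zero_of_mul_eq_one (show (1 : F) * σ 1 = 1 by rw [map_one, one_mul])))) = y := by
      apply Units.ext
      rw [Units.val_mk0, map_one, mul_one]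
    rw [h3, MonoidHom.pow_apply] at h2
    exact h2
  choose f hf using hex
  have hinj : Function.Injective f := by
    intro i j hij
    have h2 := hf i x
    rw [hij, hf j x] at h2
    -- the order of `lam x` is five
    have h5 : (lam x) ^ 5 = 1 := by rw [← map_pow]; exact h1 x
    have hne : lam x ≠ 1 := by
      intro h
      apply hx
      rw [map_pow, h, one_pow]
    have ho : orderOf (lam x) = 5 := by
      have := (Nat.dvd_prime (by norm_num : Nat.Prime 5)).1 (orderOf_dvd_of_pow_eq_one h5)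
      rcases this with h | h
      · exact absurd (orderOf_eq_one_iff.1 h) hne
      · exact h
    have h6 := (pow_inj_mod (x := lam x)).1 h2
    rw [ho, Nat.mod_eq_of_lt i.2, Nat.mod_eq_of_lt j.2] at h6
    exact Fin.ext h6.symm
  have h7 := Nat.card_le_card_of_injective f hinj
  rwa [Nat.card_eq_fintype_card, Fintype.card_fin] at h7

/-- The arithmetic of the cuspidal degrees. -/
theorem arith_five {n c t : ℕ} (hn : n ∣ 62400) (h13 : ¬ 13 ∣ n) (hc1 : 1 ≤ c) (hc3 : c ≤ 3)
    (hnt : n = 15 * c + 4 * t) : 5 ∣ n := by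
  have h1 : n ∣ 4800 := by
    have h2 : Nat.Coprime n 13 := by
      rw [Nat.coprime_comm, Nat.Prime.coprime_iff_not_dvd (by norm_num)]
      exact h13
    refine h2.dvd_of_dvd_mul_left (m := 13) ?_
    exact hn
  have h15 : 15 ≤ n := by omega
  rcases Nat.even_or_odd n with ⟨k, hk⟩ | ho
  · have hko : Odd k := by
      rw [Nat.odd_iff]
      omega
    have h2 : k ∣ 75 := by
      have h3 : 2 * k ∣ 2 * 2400 := by
        rw [← two_mul] at hk
        rw [← hk]
        exact h1
      have h4 : k ∣ 32 * 75 := Nat.dvd_of_mul_dvd_mul_left (by norm_num) h3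
      have h5 : Nat.Coprime k 32 := by
        have : Nat.Coprime k (2 ^ 5) := Nat.Coprime.pow_right 5 (Nat.Coprime.symm
          (Nat.coprime_two_left.2 hko))
        exact this
      exact h5.dvd_of_dvd_mul_left h4
    have h6 := Nat.le_of_dvd (by norm_num) h2
    have h7 : 8 ≤ k := by omega
    interval_cases k <;> omega
  · have h2 : n ∣ 75 := by
      have h4 : n ∣ 64 * 75 := h1
      have h5 : Nat.Coprime n 64 := by
        have : Nat.Coprime n (2 ^ 6) := Nat.Coprime.pow_right 6 (Nat.Coprime.symm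
          (Nat.coprime_two_left.2 ho))
        exact this
      exact h5.dvd_of_dvd_mul_left h4
    have h6 := Nat.le_of_dvd (by norm_num) h2
    interval_cases n <;> omega

/-- **A degree divisible by `39`.** -/
theorem exists_39 (hF : Fintype.card F = 4 ^ 2) (hs : ∀ x, σ x = x ^ 4) :
    ∃ n ∈ charDegrees (PG σ), 39 ∣ n := by
  classical
  have : Finite (GUJ σ) := inferInstance
  have : Finite (PG σ) := inferInstance
  have := Fintype.ofFinite (PG σ)
  have := Fintype.ofFinite (spP σ).U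
  have := finite_Inv (σ := σ) hs
  have := Fintype.ofFinite {f : (spP σ).B →* ℂˣ // (spP σ).Inv f}
  have := Characters.Core.finite_irr (G := PG σ)
  have := Fintype.ofFinite (IrrCharacter (PG σ))
  by_contra hcon
  push Not at hcon
  have H := fus (σ := σ) hF (by norm_num) hs
  obtain ⟨θ, hθ1, hθX, hfree⟩ := exists_theta (σ := σ) hF hs
  obtain ⟨x, hx, hx1⟩ := H.exists_x
  obtain ⟨u, hu, hu1⟩ := H.exists_u
  have hcardG : Nat.card (PG σ) = 62400 := by
    rw [(spP σ).card_G, (spP σ).card_B, card_UP hF hs, card_TP hF hs]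
    norm_num
  have hidx : (spP σ).U.index = 975 := by
    have h1 := (spP σ).U.card_mul_index
    rw [hcardG, card_UP hF hs] at h1
    omega
  -- the values
  have hv := fun ψ : IrrCharacter (PG σ) => H.values ψ.2 hx hx1 hu hu1
  choose n m k a b h1 h2 h3 h4 h5 h6 h7 h8 h9 using hv
  -- the Gelfand-Graev character
  obtain ⟨c, hc⟩ := Characters.Core.exists_nat_comb ((spP σ).isCharacter_gg θ)
  have hcψ : ∀ ψ : IrrCharacter (PG σ), classInner ((spP σ).gg θ) (ψ : PG σ → ℂ) = c ψ := by
    intro ψ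
    rw [hc, Characters.Core.classInner_sum_nsmul_irr]
  have hcθ : ∀ ψ : IrrCharacter (PG σ),
      classInner (fun u : (spP σ).U => (ψ : PG σ → ℂ) u) (fun u => (θ u : ℂ)) = c ψ := by
    intro ψ
    rw [← Complex.conj_natCast, ← hcψ, (spP σ).inner_gg θ ψ.2,
      Characters.Core.classInner_conj_symm]
  have hckb : ∀ ψ : IrrCharacter (PG σ), (c ψ : ℤ) = k ψ - b ψ := by
    intro ψ
    have e := H.inner_theta (Characters.Core.isIrr_isClassFunction ψ.2) hu hu1 θ hθ1 hθX
    rw [hcθ, h4, h3] at e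
    exact_mod_cast e
  have hsum : ∑ ψ : IrrCharacter (PG σ), c ψ * n ψ = 975 := by
    have e := congrFun hc 1
    rw [Split.gg_def, OddOrderCharacters.IndRes.indFun_apply_one, hidx, map_one, Units.val_one,
      mul_one, Finset.sum_apply] at e
    have e2 : ∀ ψ : IrrCharacter (PG σ), (c ψ • (ψ : PG σ → ℂ)) 1 = ((c ψ * n ψ : ℕ) : ℂ) := by
      intro ψ
      rw [Pi.smul_apply, nsmul_eq_mul, h1]
      push_cast
      ring
    rw [Finset.sum_congr rfl fun ψ _ => e2 ψ] at e
    exact_mod_cast e.symm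
  have hnorm : ∑ ψ : IrrCharacter (PG σ), c ψ ^ 2 = 16 := by
    have e := (spP σ).norm_gg θ hfree
    rw [hc, norm_eq_sum, card_TP hF hs] at e
    exact_mod_cast e
  -- the constituents of the reducible principal series
  have hpair : ∀ f : {f : (spP σ).B →* ℂˣ // (spP σ).Inv f}, ∃ β : IrrCharacter (PG σ),
      classInner ((spP σ).ps f.1) (β : PG σ → ℂ) ≠ 0 ∧ c β = 1 ∧ k β = 1 ∧
      n β = (if f.1 = 1 then 64 else 52) ∧
      ∀ ψ : IrrCharacter (PG σ), classInner ((spP σ).ps f.1) (ψ : PG σ → ℂ) ≠ 0 → ψ ≠ β →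
        c ψ = 0 := by
    rintro ⟨f, hf⟩
    obtain ⟨χ, χ', hne, e, e1, e2, e3, e4, e5⟩ := H.pair hu hu1 f hf
    have hb0 : b χ' = 0 := by
      have := h3 χ'
      rw [e2] at this
      exact_mod_cast this.symm
    have hb1 : b χ = 1 := by
      have := h3 χ
      rw [e1] at this
      exact_mod_cast this.symm
    have hk0 : k χ' = 1 := by
      have := h4 χ'
      rw [e4] at this
      exact_mod_cast this.symm
    have hk1 : k χ = 1 := by
      have := h4 χ
      rw [e3] at this
      exact_mod_cast this.symm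
    refine ⟨χ', ?_, ?_, hk0, ?_, ?_⟩
    · show classInner ((spP σ).ps f) (χ' : PG σ → ℂ) ≠ 0
      rw [e, Characters.Core.classInner_add_left, Characters.Core.classInner_irr_self χ'.2,
        Characters.Core.classInner_irr_ne χ.2 χ'.2 (fun h' => hne (Subtype.ext h')), zero_add]
      exact one_ne_zero
    · have := hckb χ'
      rw [hk0, hb0] at this
      omega
    · show n χ' = if f = 1 then 64 else 52
      split_ifs with h
      · subst h
        -- the trivial character is a constituent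
        have g1 := (spP σ).inner_ps_one
        rw [e, Characters.Core.classInner_add_left] at g1
        rcases e5 with ⟨-, e6⟩ | ⟨e6, e7⟩
        · rw [h1] at e6
          have : n χ' = 4 ^ 3 := by exact_mod_cast e6
          omega
        · exfalso
          rw [Characters.Core.classInner_irr_ne χ.2 Characters.Core.isIrr_one,
            Characters.Core.classInner_irr_ne χ'.2 Characters.Core.isIrr_one, add_zero] at g1
          · exact zero_ne_one g1
          · intro h
            rw [h, Pi.one_apply] at e7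
            have : 1 = 4 * (4 ^ 2 - 4 + 1) := by exact_mod_cast e7
            omega
          · intro h
            rw [h, Pi.one_apply] at e6
            have : 1 = 4 ^ 2 - 4 + 1 := by exact_mod_cast e6
            omega
      · rcases e5 with ⟨e6, -⟩ | ⟨-, e7⟩
        · exfalso
          apply h
          -- `χ` is linear, hence trivial
          obtain ⟨η, hη⟩ := Cfsg.Agent.Characters.Linear.exists_hom_of_isIrrCharacter χ.2 e6
          have htop := S_eq_top (σ := σ) hs
          have hη1 : η = 1 := by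
            have g1 := perfect (σ := σ) hF (by norm_num) hs (η.comp (S σ).subtype)
            refine MonoidHom.ext fun y => ?_
            have hy : y ∈ S σ := by rw [htop]; exact Subgroup.mem_top y
            exact DFunLike.congr_fun g1 ⟨y, hy⟩
          have hχ1 : (χ : PG σ → ℂ) = 1 := by
            rw [hη, hη1]
            rfl
          by_contra hf1
          have g2 := (spP σ).inner_ps_one_eq_zero f hf1
          rw [e, Characters.Core.classInner_add_left, hχ1,
            Characters.Core.classInner_irr_self Characters.Core.isIrr_one] at g2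
          obtain ⟨d, hd⟩ := Characters.Core.classInner_isNat
            (Characters.Core.isIrr_isCharacter χ'.2)
            (Characters.Core.isCharacter_one (G := PG σ))
          rw [hd] at g2
          have : 1 + d = 0 := by exact_mod_cast g2
          omega
        · rw [h1] at e7
          have : n χ' = 4 * (4 ^ 2 - 4 + 1) := by exact_mod_cast e7
          omega
    · intro ψ hψ hψ'
      have hψχ : ψ = χ := by
        by_contra hne'
        apply hψ
        show classInner ((spP σ).ps f) (ψ : PG σ → ℂ) = 0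
        rw [e, Characters.Core.classInner_add_left,
          Characters.Core.classInner_irr_ne χ.2 ψ.2 (fun h' => hne' (Subtype.ext h'.symm)),
          Characters.Core.classInner_irr_ne χ'.2 ψ.2 (fun h' => hψ' (Subtype.ext h'.symm)),
          add_zero]
      subst hψχ
      have := hckb ψ
      rw [hk1, hb1] at this
      omega
  choose β hβ1 hβ2 hβ3 hβ4 hβ5 using hpair
  have hβinj : Function.Injective β := by
    intro f g hfg
    by_contra hne
    have hne' : f.1 ≠ g.1 := fun h => hne (Subtype.ext h)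
    have h10 := (spP σ).two_le f.2.1 g.2.1 hne' (β f).2 (hβ1 f) (by rw [hfg]; exact hβ1 g) (h4 (β f))
    rw [hβ3] at h10
    omega
  -- the sum over the image of `β`
  have hcardI : Fintype.card {f : (spP σ).B →* ℂˣ // (spP σ).Inv f} = 5 := by
    rw [← Nat.card_eq_fintype_card]
    exact card_Inv_four (σ := σ) hF hs
  have hone : (spP σ).Inv (1 : (spP σ).B →* ℂˣ) := ⟨fun _ _ => rfl, fun _ _ => rfl⟩
  have hsum1 : ∑ ψ ∈ Finset.univ.image β, c ψ * n ψ = 272 := by
    rw [Finset.sum_image (fun f _ g _ h => hβinj h)]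
    have e1 : ∀ f : {f : (spP σ).B →* ℂˣ // (spP σ).Inv f}, c (β f) * n (β f) =
        (if f = ⟨1, hone⟩ then 12 else 0) + 52 := by
      intro f
      rw [hβ2, hβ4, one_mul]
      by_cases h : f = ⟨1, hone⟩
      · rw [if_pos h, if_pos (by rw [h])]
      · rw [if_neg h, if_neg (fun h' => h (Subtype.ext h'))]
    rw [Finset.sum_congr rfl fun f _ => e1 f, Finset.sum_add_distrib,
      Finset.sum_ite_eq' Finset.univ, if_pos (Finset.mem_univ _), Finset.sum_const,
      Finset.card_univ, hcardI]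
    norm_num
  -- the other terms are divisible by five
  have hdiv : ∀ ψ ∈ (Finset.univ.image β)ᶜ, 5 ∣ c ψ * n ψ := by
    intro ψ hψ
    rw [Finset.mem_compl, Finset.mem_image] at hψ
    push Not at hψ
    by_cases hk : k ψ = 0
    · -- cuspidal
      by_cases hc0 : c ψ = 0
      · rw [hc0, zero_mul]
        exact dvd_zero _
      apply Dvd.dvd.mul_left
      have e1 := hckb ψ
      have e2 := h5 ψ
      have e3 := h6 ψ
      have e4 := h7 ψ
      have e5 := h9 ψ
      rw [hk] at e1 e3
      push_cast at e1 e2 e3 e4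
      have hm : m ψ = 15 * c ψ := by omega
      obtain ⟨t, ht⟩ : ∃ t, n ψ = 15 * c ψ + 4 * t := by
        obtain ⟨t, ht⟩ := e4
        refine ⟨t.toNat, ?_⟩
        omega
      have hnd : n ψ ∣ 62400 := by
        rw [← hcardG]
        exact dvd_card (mem_charDegrees.2 ⟨_, ψ.2, h1 ψ⟩)
      have h3n : 3 ∣ n ψ := by omega
      have h39 := hcon (n ψ) (mem_charDegrees.2 ⟨_, ψ.2, h1 ψ⟩)
      have h13 : ¬ 13 ∣ n ψ := by
        intro h
        apply h39
        have : 3 * 13 ∣ n ψ := Nat.Coprime.mul_dvd_of_dvd_of_dvd (by norm_num) h3n h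
        exact this
      have hc3 : c ψ ≤ 3 := by
        have e6 : ∑ ψ' ∈ ({ψ, β ⟨1, hone⟩} : Finset (IrrCharacter (PG σ))), c ψ' ^ 2 ≤ 16 := by
          rw [← hnorm]
          exact Finset.sum_le_sum_of_subset (Finset.subset_univ _)
        rw [Finset.sum_pair (fun h => hψ ⟨1, hone⟩ (Finset.mem_univ _) h.symm), hβ2] at e6
        by_contra hlt
        have : 4 ≤ c ψ := by omega
        nlinarith
      exact arith_five hnd h13 (Nat.one_le_iff_ne_zero.2 hc0) hc3 ht
    · -- principal series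
      obtain ⟨f, hfU, hfψ⟩ := (spP σ).exists_ps ψ.2 (by
        rw [h4]
        exact_mod_cast hk)
      by_cases hinv : ∀ t, ∀ ht : t ∈ (spP σ).T, f ⟨t, (spP σ).TB ht⟩ =
          f ⟨(spP σ).w⁻¹ * t * (spP σ).w, (spP σ).TB ((spP σ).wT t ht)⟩
      · have := hβ5 ⟨f, hfU, hinv⟩ ψ hfψ (fun h => hψ _ (Finset.mem_univ _) h.symm)
        rw [this, zero_mul]
        exact dvd_zero _
      · push Not at hinv
        have hirr := (spP σ).isIrr_ps f hinv
        have e1 : (spP σ).ps f = (ψ : PG σ → ℂ) := by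
          by_contra hne
          exact hfψ (Characters.Core.classInner_irr_ne hirr ψ.2 hne)
        have e2 := h1 ψ
        rw [← e1, (spP σ).ps_one, card_UP hF hs] at e2
        have e3 : 4 ^ 3 + 1 = n ψ := by exact_mod_cast e2
        apply Dvd.dvd.mul_left
        omega
  have htot := Finset.sum_add_sum_compl (Finset.univ.image β) (fun ψ => c ψ * n ψ)
  rw [hsum, hsum1] at htot
  obtain ⟨z, hz⟩ := Finset.dvd_sum hdiv
  rw [hz] at htot
  omega

end four

universe u

/-- A degree of `PSU(3,4)` divisible by `39`. -/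
theorem degree_four {S' : Type u} [Group S'] {F : Type*} [Field F] [Fintype F]
    (hF : Fintype.card F = 4 ^ 2) (e : S' ≃* Cfsg.PSU 3 F 4) : ∃ n ∈ charDegrees S', 39 ∣ n := by
  obtain ⟨σ, hσ, hs, ⟨e'⟩⟩ := exists_iso hF
  obtain ⟨n, hn, h39⟩ := exists_39 (σ := σ) hF hs
  have htop := S_eq_top (σ := σ) hs
  let e2 : S σ ≃* PG σ := (MulEquiv.subgroupCongr htop).trans Subgroup.topEquiv
  exact ⟨n, PSLTwo.mem_of_equiv ((e.trans e').trans e2) hn, h39⟩

/-- **The degree graph of `PSU(3,q)`, `q ≥ 3`, contains a triangle.** -/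
theorem tri {S' : Type u} [Group S'] {F : Type*} [Field F] [Fintype F] {q : ℕ}
    (hF : Fintype.card F = q ^ 2) (hq : 3 ≤ q) (e : S' ≃* Cfsg.PSU 3 F q) :
    ∃ a b c : ℕ, H671.H5.Adj a b S' ∧ H671.H5.Adj b c S' ∧ H671.H5.Adj a c S' := by
  obtain ⟨p, D⟩ := exists_DD hF hq e
  rcases Nat.even_or_odd q with ho | ho
  · by_cases h4 : q = 4
    · subst h4
      obtain ⟨n, hn, h39⟩ := degree_four hF e
      have hp2 : p = 2 := (D.dvd_p Nat.prime_two (by norm_num)).symm
      subst hp2
      refine ⟨2, 3, 13, D.adjB Nat.prime_two Nat.prime_three (by norm_num) (by norm_num)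
        (by norm_num), adj_of_mem hn Nat.prime_three (by norm_num) (by norm_num)
        (dvd_trans (by norm_num) h39) (dvd_trans (by norm_num) h39),
        D.adjC Nat.prime_two (by norm_num) (by norm_num) (by norm_num) (by norm_num)⟩
    · exact D.tri_even ho h4
  · obtain ⟨h1, r, h2, h3⟩ := D.tri_odd ho
    exact ⟨p, 2, r, h1, h2, h3⟩

/-- The degree graph of `PSU(3,q)`, `q ≥ 3`, is connected. -/
theorem conn {S' : Type u} [Group S'] [Finite S'] {F : Type*} [Field F] [Fintype F] {q : ℕ}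
    (hF : Fintype.card F = q ^ 2) (hq : 3 ≤ q) (e : S' ≃* Cfsg.PSU 3 F q) :
    ((degreeGraph S').induce (degreePrimes S')).Connected := by
  obtain ⟨p, D⟩ := exists_DD hF hq e
  exact D.conn

/-- Among three degree primes of `PSU(3,q)`, `q ≥ 3`, two are adjacent. -/
theorem indep {S' : Type u} [Group S'] [Finite S'] {F : Type*} [Field F] [Fintype F] {q : ℕ}
    (hF : Fintype.card F = q ^ 2) (hq : 3 ≤ q) (e : S' ≃* Cfsg.PSU 3 F q) {a b c : ℕ}
    (ha : a ∈ degreePrimes S') (hb : b ∈ degreePrimes S') (hc : c ∈ degreePrimes S')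
    (hab : a ≠ b) (hbc : b ≠ c) (hac : a ≠ c) :
    H671.H5.Adj a b S' ∨ H671.H5.Adj b c S' ∨ H671.H5.Adj a c S' := by
  obtain ⟨p, D⟩ := exists_DD hF hq e
  exact D.indep ha hb hc hab hbc hac

end Cfsg.Agent.H664.R1.U3
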