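import Cfsg.Agent.H664.R1.U3Defs
import Cfsg.Agent.H664.R1.Split

/-!
# The split BN pair of the unitary group of dimension three (helper664)
-/

set_option autoImplicit false
set_option linter.unusedSimpArgs false
set_option linter.unusedSectionVars false

namespace Cfsg.Agent.H664.R1.U3

open Matrix Cfsg Cfsg.Agent.LieRecognition.PSUThreeSylow

variable {F : Type*} [Field F] {σ : F →+* F}

/-- The entries of the form equation. -/
theorem entry (g : GUJ σ) (i j : Fin 3) :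
    mat σ g 0 i * σ (mat σ g 2 j) + mat σ g 1 i * σ (mat σ g 1 j) + mat σ g 2 i * σ (mat σ g 0 j) =
      Jm F i j := by
  have h := congrFun (congrFun (mat_spec g) i) j
  rw [← h]
  simp only [Matrix.mul_apply, Fin.sum_univ_three, Jm, Matrix.transpose_apply, Matrix.map_apply,
    Matrix.of_apply, Matrix.cons_val', Matrix.cons_val_zero, Matrix.cons_val_one,
    Matrix.cons_val_two, Matrix.empty_val', Matrix.cons_val_fin_one]
  simp
  ring

theorem mul_entry (g h : GUJ σ) (i j : Fin 3) :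
    mat σ (g * h) i j = mat σ g i 0 * mat σ h 0 j + mat σ g i 1 * mat σ h 1 j +
      mat σ g i 2 * mat σ h 2 j := by
  rw [mat_mul, Matrix.mul_apply, Fin.sum_univ_three]

theorem Jm_mul' (M : Matrix (Fin 3) (Fin 3) F) (i j : Fin 3) :
    (Jm F * M) i j = M (2 - i) j := by
  rw [Matrix.mul_apply, Fin.sum_univ_three]
  fin_cases i <;> simp [Jm]

theorem mul_Jm' (M : Matrix (Fin 3) (Fin 3) F) (i j : Fin 3) :
    (M * Jm F) i j = M i (2 - j) := by
  rw [Matrix.mul_apply, Fin.sum_univ_three]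
  fin_cases j <;> simp [Jm]

section inv

/-- The matrix of the inverse. -/
theorem mat_inv (g : GUJ σ) : mat σ g⁻¹ = Jm F * ((mat σ g).map σ)ᵀ * Jm F := by
  have h1 : ((mat σ g).map σ)ᵀ * Jm F * mat σ g = Jm F := by
    have h := congrArg Matrix.transpose (mat_spec g)
    rw [Matrix.transpose_mul, Matrix.transpose_mul, Matrix.transpose_transpose, Jm_transpose,
      ← Matrix.mul_assoc] at h
    exact h
  have h2 : (Jm F * ((mat σ g).map σ)ᵀ * Jm F) * mat σ g = 1 := by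
    rw [Matrix.mul_assoc (Jm F), Matrix.mul_assoc (Jm F), h1, Jm_mul_Jm]
  have h3 : mat σ g * mat σ g⁻¹ = 1 := by rw [← mat_mul, mul_inv_cancel, mat_one]
  calc mat σ g⁻¹ = (Jm F * ((mat σ g).map σ)ᵀ * Jm F) * mat σ g * mat σ g⁻¹ := by
        rw [h2, Matrix.one_mul]
    _ = _ := by rw [Matrix.mul_assoc, h3, Matrix.mul_one]

theorem inv_entry (g : GUJ σ) :
    mat σ g⁻¹ = !![σ (mat σ g 2 2), σ (mat σ g 1 2), σ (mat σ g 0 2);
      σ (mat σ g 2 1), σ (mat σ g 1 1), σ (mat σ g 0 1);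
      σ (mat σ g 2 0), σ (mat σ g 1 0), σ (mat σ g 0 0)] := by
  rw [mat_inv]
  ext i j
  rw [mul_Jm', Jm_mul', Matrix.transpose_apply, Matrix.map_apply]
  fin_cases i <;> fin_cases j <;> rfl

end inv

/-- Upper triangular. -/
def Up (M : Matrix (Fin 3) (Fin 3) F) : Prop := M 1 0 = 0 ∧ M 2 0 = 0 ∧ M 2 1 = 0

/-- Diagonal. -/
def Di (M : Matrix (Fin 3) (Fin 3) F) : Prop :=
  (M 1 0 = 0 ∧ M 2 0 = 0 ∧ M 2 1 = 0) ∧ (M 0 1 = 0 ∧ M 0 2 = 0 ∧ M 1 2 = 0)

variable (σ) [hσ : Fact (∀ x, σ (σ x) = x)]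

/-- The Borel subgroup. -/
def Bo : Subgroup (GUJ σ) where
  carrier := {g | Up (mat σ g)}
  mul_mem' := by
    rintro g h ⟨h1, h2, h3⟩ ⟨k1, k2, k3⟩
    refine ⟨?_, ?_, ?_⟩ <;> rw [mul_entry] <;> simp only [h1, h2, h3, k1, k2, k3] <;> ring
  one_mem' := by
    show Up (mat σ 1)
    rw [mat_one]
    exact ⟨rfl, rfl, rfl⟩
  inv_mem' := by
    rintro g ⟨h1, h2, h3⟩
    show Up (mat σ g⁻¹)
    rw [inv_entry]
    refine ⟨?_, ?_, ?_⟩ <;> simp [h1, h2, h3]

/-- The unipotent radical. -/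
def Un : Subgroup (GUJ σ) where
  carrier := {g | Up (mat σ g) ∧ mat σ g 0 0 = 1 ∧ mat σ g 1 1 = 1 ∧ mat σ g 2 2 = 1}
  mul_mem' := by
    rintro g h ⟨hg, h4, h5, h6⟩ ⟨hh, k4, k5, k6⟩
    refine ⟨(Bo σ).mul_mem hg hh, ?_, ?_, ?_⟩
    all_goals
      obtain ⟨h1, h2, h3⟩ := hg
      obtain ⟨k1, k2, k3⟩ := hh
      rw [mul_entry]
      simp only [h1, h2, h3, k1, k2, k3, h4, h5, h6, k4, k5, k6]
      ring
  one_mem' := by
    show Up (mat σ 1) ∧ _
    rw [mat_one]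
    exact ⟨⟨rfl, rfl, rfl⟩, rfl, rfl, rfl⟩
  inv_mem' := by
    rintro g ⟨hg, h4, h5, h6⟩
    refine ⟨(Bo σ).inv_mem hg, ?_, ?_, ?_⟩ <;> rw [inv_entry] <;> simp [h4, h5, h6]

/-- The torus. -/
def To : Subgroup (GUJ σ) where
  carrier := {g | Di (mat σ g)}
  mul_mem' := by
    rintro g h ⟨⟨h1, h2, h3⟩, h4, h5, h6⟩ ⟨⟨k1, k2, k3⟩, k4, k5, k6⟩
    refine ⟨⟨?_, ?_, ?_⟩, ?_, ?_, ?_⟩ <;> rw [mul_entry] <;>
      simp only [h1, h2, h3, h4, h5, h6, k1, k2, k3, k4, k5, k6] <;> ring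
  one_mem' := by
    show Di (mat σ 1)
    rw [mat_one]
    exact ⟨⟨rfl, rfl, rfl⟩, rfl, rfl, rfl⟩
  inv_mem' := by
    rintro g ⟨⟨h1, h2, h3⟩, h4, h5, h6⟩
    show Di (mat σ g⁻¹)
    rw [inv_entry]
    refine ⟨⟨?_, ?_, ?_⟩, ?_, ?_, ?_⟩ <;> simp [h1, h2, h3, h4, h5, h6]

variable {σ}

theorem mem_Bo {g : GUJ σ} : g ∈ Bo σ ↔ Up (mat σ g) := Iff.rfl

theorem mem_Un {g : GUJ σ} :
    g ∈ Un σ ↔ Up (mat σ g) ∧ mat σ g 0 0 = 1 ∧ mat σ g 1 1 = 1 ∧ mat σ g 2 2 = 1 := Iff.rfl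

theorem mem_To {g : GUJ σ} : g ∈ To σ ↔ Di (mat σ g) := Iff.rfl

/-- Membership in the Borel subgroup from the first column. -/
theorem mem_Bo_of_col {g : GUJ σ} (h1 : mat σ g 1 0 = 0) (h2 : mat σ g 2 0 = 0) : g ∈ Bo σ := by
  refine ⟨h1, h2, ?_⟩
  have h := entry g 0 1
  rw [h1, h2] at h
  have hJ : Jm F 0 1 = 0 := rfl
  rw [hJ] at h
  have h3 : mat σ g 0 0 ≠ 0 := by
    intro h0
    have h4 := entry g 0 2
    rw [h0, h1, h2] at h4
    have hJ2 : Jm F 0 2 = 1 := rfl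
    rw [hJ2] at h4
    simp at h4
  have h5 : mat σ g 0 0 * σ (mat σ g 2 1) = 0 := by linear_combination h
  exact (map_eq_zero σ).1 ((mul_eq_zero.1 h5).resolve_left h3)

/-- The diagonal elements. -/
def dg (t s : F) (ht : t ≠ 0) (hs : s * σ s = 1) : GUJ σ :=
  mk !![t, 0, 0; 0, s, 0; 0, 0, (σ t)⁻¹] (by
    have h0 : σ t ≠ 0 := (map_ne_zero σ).2 ht
    ext i j
    fin_cases i <;> fin_cases j <;>
      simp [Jm, Matrix.mul_apply, Fin.sum_univ_three, Matrix.transpose_apply, hs, h0, ht, hσ.out])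

theorem mat_dg (t s : F) (ht : t ≠ 0) (hs : s * σ s = 1) :
    mat σ (dg t s ht hs) = !![t, 0, 0; 0, s, 0; 0, 0, (σ t)⁻¹] := rfl

theorem dg_mem (t s : F) (ht : t ≠ 0) (hs : s * σ s = 1) : dg t s ht hs ∈ To σ := by
  rw [mem_To, mat_dg]
  exact ⟨⟨rfl, rfl, rfl⟩, rfl, rfl, rfl⟩

/-- The unipotent elements. -/
def un (a b : F) (h : b + σ b + a * σ a = 0) : GUJ σ :=
  mk !![1, a, b; 0, 1, -σ a; 0, 0, 1] (by
    ext i j
    fin_cases i <;> fin_cases j <;>
      simp [Jm, Matrix.mul_apply, Fin.sum_univ_three, Matrix.transpose_apply, hσ.out]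
    linear_combination h)

theorem mat_un (a b : F) (h : b + σ b + a * σ a = 0) :
    mat σ (un a b h) = !![1, a, b; 0, 1, -σ a; 0, 0, 1] := rfl

theorem un_mem (a b : F) (h : b + σ b + a * σ a = 0) : un a b h ∈ Un σ := by
  rw [mem_Un, mat_un]
  exact ⟨⟨rfl, rfl, rfl⟩, rfl, rfl, rfl⟩

/-- Elements of `T` are diagonal elements. -/
theorem exists_dg {g : GUJ σ} (hg : g ∈ To σ) :
    ∃ (t s : F) (ht : t ≠ 0) (hs : s * σ s = 1), g = dg t s ht hs := by
  obtain ⟨⟨h1, h2, h3⟩, h4, h5, h6⟩ := hg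
  have e02 := entry g 0 2
  have e11 := entry g 1 1
  rw [h1, h2] at e02
  rw [h3, h4] at e11
  have hJ2 : Jm F 0 2 = 1 := rfl
  have hJ1 : Jm F 1 1 = 1 := rfl
  rw [hJ2] at e02
  rw [hJ1] at e11
  have e02' : mat σ g 0 0 * σ (mat σ g 2 2) = 1 := by linear_combination e02
  have e11' : mat σ g 1 1 * σ (mat σ g 1 1) = 1 := by
    rw [map_zero] at e11
    linear_combination e11
  have h0 : mat σ g 0 0 ≠ 0 := left_ne_zero_of_mul_eq_one e02'
  refine ⟨mat σ g 0 0, mat σ g 1 1, h0, e11', mat_inj ?_⟩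
  rw [mat_dg]
  have h22 : mat σ g 2 2 = (σ (mat σ g 0 0))⁻¹ := by
    have h := congrArg σ e02'
    rw [map_mul, hσ.out, map_one] at h
    exact eq_inv_of_mul_eq_one_right h
  ext i j
  fin_cases i <;> fin_cases j <;> simp [h1, h2, h3, h4, h5, h6, h22]

/-- Elements of `U` are unipotent elements. -/
theorem exists_un {g : GUJ σ} (hg : g ∈ Un σ) :
    ∃ (a b : F) (h : b + σ b + a * σ a = 0), g = un a b h := by
  obtain ⟨⟨h1, h2, h3⟩, h4, h5, h6⟩ := hg
  have e12 := entry g 1 2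
  have e22 := entry g 2 2
  have hJ12 : Jm F 1 2 = 0 := rfl
  have hJ22 : Jm F 2 2 = 0 := rfl
  rw [hJ12, h3, h5, h6, map_one] at e12
  rw [hJ22, h6, map_one] at e22
  have h12 : mat σ g 1 2 = -σ (mat σ g 0 1) := by
    have h7 : mat σ g 0 1 + σ (mat σ g 1 2) = 0 := by linear_combination e12
    have h8 : σ (mat σ g 0 1) + mat σ g 1 2 = 0 := by
      have := congrArg σ h7
      rwa [map_add, hσ.out, map_zero] at this
    linear_combination h8
  have h22 : mat σ g 0 2 + σ (mat σ g 0 2) + mat σ g 0 1 * σ (mat σ g 0 1) = 0 := by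
    rw [h12, map_neg, hσ.out] at e22
    linear_combination e22
  refine ⟨mat σ g 0 1, mat σ g 0 2, h22, mat_inj ?_⟩
  rw [mat_un]
  ext i j
  fin_cases i <;> fin_cases j <;> simp [h1, h2, h3, h4, h5, h6, h12]

theorem un_mul (a b a' b' : F) (h : b + σ b + a * σ a = 0) (h' : b' + σ b' + a' * σ a' = 0)
    (h'' : (b' - a * σ a' + b) + σ (b' - a * σ a' + b) + (a + a') * σ (a + a') = 0) :
    un a b h * un a' b' h' = un (a + a') (b' - a * σ a' + b) h'' := by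
  apply mat_inj
  rw [mat_mul, mat_un, mat_un, mat_un]
  ext i j
  fin_cases i <;> fin_cases j <;> simp [Matrix.mul_apply, Fin.sum_univ_three] <;> ring

/-- `un` composition, with the computed relation. -/
theorem un_rel {a b a' b' : F} (h : b + σ b + a * σ a = 0) (h' : b' + σ b' + a' * σ a' = 0) :
    (b' - a * σ a' + b) + σ (b' - a * σ a' + b) + (a + a') * σ (a + a') = 0 := by
  simp only [map_add, map_sub, map_mul, hσ.out]
  linear_combination h + h'

/-- The Weyl element. -/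
def wel (σ : F →+* F) : GUJ σ :=
  mk (Jm F) (by rw [Jm_transpose, Jm_map, Jm_mul_Jm, Matrix.one_mul])

omit hσ in
theorem mat_wel : mat σ (wel σ) = Jm F := rfl

theorem wel_mul_self : wel σ * wel σ = 1 := by
  apply mat_inj
  rw [mat_mul, mat_wel, Jm_mul_Jm, mat_one]

theorem wel_inv : (wel σ)⁻¹ = wel σ := inv_eq_of_mul_eq_one_left wel_mul_self

theorem mat_wel_conj (g : GUJ σ) (i j : Fin 3) :
    mat σ ((wel σ)⁻¹ * g * wel σ) i j = mat σ g (2 - i) (2 - j) := by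
  rw [wel_inv, mat_mul, mat_mul, mat_wel, mul_Jm', Jm_mul']

/-- The split BN pair. -/
def split (σ : F →+* F) [hσ : Fact (∀ x, σ (σ x) = x)] : Split (GUJ σ) where
  B := Bo σ
  U := Un σ
  T := To σ
  w := wel σ
  UB := fun _ h => h.1
  TB := fun _ h => h.1
  nU := by
    intro b hb u hu
    have hB : b * u * b⁻¹ ∈ Bo σ := (Bo σ).mul_mem ((Bo σ).mul_mem hb hu.1) ((Bo σ).inv_mem hb)
    refine ⟨hB, ?_⟩
    have hb' : b⁻¹ ∈ Bo σ := (Bo σ).inv_mem hb
    have h1 : b * b⁻¹ = 1 := mul_inv_cancel b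
    obtain ⟨b1, b2, b3⟩ := hb
    obtain ⟨c1, c2, c3⟩ := hb'
    obtain ⟨⟨u1, u2, u3⟩, u4, u5, u6⟩ := hu
    have e0 : mat σ b 0 0 * mat σ b⁻¹ 0 0 = 1 := by
      have h := congrArg (fun g => mat σ g 0 0) h1
      simp only [mul_entry, c1, c2, mat_one, mul_zero, add_zero] at h
      rw [h]; rfl
    have e1 : mat σ b 1 1 * mat σ b⁻¹ 1 1 = 1 := by
      have h := congrArg (fun g => mat σ g 1 1) h1
      simp only [mul_entry, b1, c3, mat_one, mul_zero, add_zero, zero_mul, zero_add] at h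
      rw [h]; rfl
    have e2 : mat σ b 2 2 * mat σ b⁻¹ 2 2 = 1 := by
      have h := congrArg (fun g => mat σ g 2 2) h1
      simp only [mul_entry, b2, b3, mat_one, zero_mul, zero_add] at h
      rw [h]; rfl
    refine ⟨?_, ?_, ?_⟩
    · simp only [mul_entry, b1, b2, b3, c1, c2, c3, u1, u2, u3, u4, u5, u6]
      linear_combination e0
    · simp only [mul_entry, b1, b2, b3, c1, c2, c3, u1, u2, u3, u4, u5, u6]
      linear_combination e1
    · simp only [mul_entry, b1, b2, b3, c1, c2, c3, u1, u2, u3, u4, u5, u6]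
      linear_combination e2
  dec := by
    intro b hb
    have hb0 := hb
    obtain ⟨h1, h2, h3⟩ := hb
    have e02 := entry b 0 2
    have e11 := entry b 1 1
    rw [h1, h2] at e02
    rw [h3] at e11
    have hJ2 : Jm F 0 2 = 1 := rfl
    have hJ1 : Jm F 1 1 = 1 := rfl
    rw [hJ2] at e02
    rw [hJ1] at e11
    have e02' : mat σ b 0 0 * σ (mat σ b 2 2) = 1 := by linear_combination e02
    have e11' : mat σ b 1 1 * σ (mat σ b 1 1) = 1 := by
      rw [map_zero] at e11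
      linear_combination e11
    have h0 : mat σ b 0 0 ≠ 0 := left_ne_zero_of_mul_eq_one e02'
    have h22 : mat σ b 2 2 = (σ (mat σ b 0 0))⁻¹ := by
      have h := congrArg σ e02'
      rw [map_mul, hσ.out, map_one] at h
      exact eq_inv_of_mul_eq_one_right h
    set t := dg (mat σ b 0 0) (mat σ b 1 1) h0 e11' with ht
    have htT : t ∈ To σ := dg_mem _ _ _ _
    refine ⟨b * t⁻¹, ?_, t, htT, by group⟩
    have hB : b * t⁻¹ ∈ Bo σ := (Bo σ).mul_mem hb0 ((Bo σ).inv_mem htT.1)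
    refine ⟨hB, ?_⟩
    have hti : mat σ t⁻¹ = !![(mat σ b 0 0)⁻¹, 0, 0; 0, (mat σ b 1 1)⁻¹, 0; 0, 0, σ (mat σ b 0 0)] := by
      rw [inv_entry, ht, mat_dg]
      have h4 : σ (mat σ b 1 1) = (mat σ b 1 1)⁻¹ := eq_inv_of_mul_eq_one_right e11'
      ext i j
      fin_cases i <;> fin_cases j <;> simp [h4, hσ.out]
    have h11 : mat σ b 1 1 ≠ 0 := left_ne_zero_of_mul_eq_one e11'
    have hσ0 : σ (mat σ b 0 0) ≠ 0 := (map_ne_zero σ).2 h0
    refine ⟨?_, ?_, ?_⟩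
    · rw [mul_entry, hti]
      simp [h0]
    · rw [mul_entry, hti]
      simp [h11]
    · rw [mul_entry, hti]
      simp [h22, hσ0]
  disj := by
    rintro u ⟨⟨u1, u2, u3⟩, u4, u5, u6⟩ ⟨-, h4, h5, h6⟩
    apply mat_inj
    rw [mat_one]
    ext i j
    fin_cases i <;> fin_cases j <;> simp [u1, u2, u3, u4, u5, u6, h4, h5, h6]
  comm := by
    rintro s ⟨⟨h1, h2, h3⟩, h4, h5, h6⟩ t ⟨⟨k1, k2, k3⟩, k4, k5, k6⟩
    apply mat_inj
    ext i j
    rw [mul_entry, mul_entry]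
    fin_cases i <;> fin_cases j <;>
      simp [h1, h2, h3, h4, h5, h6, k1, k2, k3, k4, k5, k6, mul_comm]
  wT := by
    rintro t ⟨⟨h1, h2, h3⟩, h4, h5, h6⟩
    rw [mem_To]
    refine ⟨⟨?_, ?_, ?_⟩, ?_, ?_, ?_⟩ <;> rw [mat_wel_conj]
    · exact h6
    · exact h5
    · exact h4
    · exact h3
    · exact h2
    · exact h1
  wT' := by
    rintro t ⟨⟨h1, h2, h3⟩, h4, h5, h6⟩
    have : wel σ * t * (wel σ)⁻¹ = (wel σ)⁻¹ * t * wel σ := by
      rw [wel_inv]
    rw [this, mem_To]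
    refine ⟨⟨?_, ?_, ?_⟩, ?_, ?_, ?_⟩ <;> rw [mat_wel_conj]
    · exact h6
    · exact h5
    · exact h4
    · exact h3
    · exact h2
    · exact h1
  cap := by
    rintro b hb ⟨k1, k2, k3⟩
    rw [mat_wel_conj] at k1 k2 k3
    exact ⟨hb, k3, k2, k1⟩
  big := by
    intro x hx
    have h20 : mat σ x 2 0 ≠ 0 := by
      intro h0
      have e := entry x 0 0
      rw [h0, map_zero] at e
      have hJ : Jm F 0 0 = 0 := rfl
      rw [hJ] at e
      have h10 : mat σ x 1 0 * σ (mat σ x 1 0) = 0 := by linear_combination e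
      have h10' : mat σ x 1 0 = 0 := by
        rcases mul_eq_zero.1 h10 with h | h
        · exact h
        · exact (map_eq_zero σ).1 h
      exact hx (mem_Bo_of_col h10' h0)
    have hσ20 : σ (mat σ x 2 0) ≠ 0 := (map_ne_zero σ).2 h20
    have hrel : (mat σ x 0 0 / mat σ x 2 0) + σ (mat σ x 0 0 / mat σ x 2 0) +
        (-σ (mat σ x 1 0 / mat σ x 2 0)) * σ (-σ (mat σ x 1 0 / mat σ x 2 0)) = 0 := by
      have e := entry x 0 0
      have hJ : Jm F 0 0 = 0 := rfl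
      rw [hJ] at e
      simp only [map_div₀, map_neg, hσ.out]
      field_simp
      linear_combination e
    set u := un (-σ (mat σ x 1 0 / mat σ x 2 0)) (mat σ x 0 0 / mat σ x 2 0) hrel with hu
    have huU : u ∈ Un σ := un_mem _ _ _
    refine ⟨u, huU.1, (wel σ)⁻¹ * u⁻¹ * x, ?_, by group⟩
    have hinv : mat σ u⁻¹ = !![1, σ (mat σ x 1 0 / mat σ x 2 0) , σ (mat σ x 0 0 / mat σ x 2 0);
        0, 1, -(mat σ x 1 0 / mat σ x 2 0); 0, 0, 1] := by
      rw [inv_entry, hu, mat_un]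
      ext i j
      fin_cases i <;> fin_cases j <;> simp [hσ.out]
    apply mem_Bo_of_col
    · rw [wel_inv, mul_assoc, mul_entry, mat_wel]
      have h1 : Jm F 1 0 = 0 := rfl
      have h2 : Jm F 1 1 = 1 := rfl
      have h3 : Jm F 1 2 = 0 := rfl
      rw [h1, h2, h3, mul_entry u⁻¹ x 1 0, hinv]
      simp
      field_simp
      ring
    · rw [wel_inv, mul_assoc, mul_entry, mat_wel]
      have h1 : Jm F 2 0 = 1 := rfl
      have h2 : Jm F 2 1 = 0 := rfl
      have h3 : Jm F 2 2 = 0 := rfl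
      have e := entry x 0 0
      have hJ : Jm F 0 0 = 0 := rfl
      rw [hJ] at e
      rw [h1, h2, h3, mul_entry u⁻¹ x 0 0, hinv]
      simp
      field_simp
      linear_combination e
  wB := by
    rintro ⟨-, h, -⟩
    rw [mat_wel] at h
    have : Jm F 2 0 = 1 := rfl
    rw [this] at h
    exact one_ne_zero h

end Cfsg.Agent.H664.R1.U3
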