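import Cfsg.Agent.H664.R1.U3Char
import Cfsg.Agent.H33.IM
import Cfsg.Agent.H671.H5Facts

/-!
# Degrees of `PSU(3,q)` (helper664)

`S σ` is the image of the special unitary group in the projective unitary group.

* `exists_degree` : a degree divisible by `p (q - 1)`;
* `exists_ps` : the degree `q ^ 3 + 1`;
* `im` : every prime divisor of the order divides a degree.
-/

set_option autoImplicit false
set_option linter.unusedSimpArgs false
set_option linter.unusedSectionVars false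

namespace Cfsg.Agent.H664.R1.U3

open Matrix Cfsg Cfsg.Agent.LieRecognition.PSUThreeSylow Cfsg.Agent.LieClassical.HermBasic
open Cfsg.Agent.H681.DegBasic
open scoped ComplexConjugate

section general

variable {F : Type*} [Field F] {σ : F →+* F} [hσ : Fact (∀ x, σ (σ x) = x)]

/-- The projective special unitary group, as a subgroup of the projective unitary group. -/
def S (σ : F →+* F) [hσ : Fact (∀ x, σ (σ x) = x)] : Subgroup (PG σ) := (SUs σ).map (pr σ)

theorem S_def : S σ = (SUs σ).map (pr σ) := rfl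

theorem U_le_S : (spP σ).U ≤ S σ := Subgroup.map_mono Un_le_SUs

theorem w_mem_S : (spP σ).w ∈ S σ := ⟨wel' σ, wel'_mem, rfl⟩

theorem XP_le' : XP σ ≤ (spP σ).U := Subgroup.map_mono Ze_le

theorem X_le_S : XP σ ≤ S σ := XP_le'.trans U_le_S

instance S_normal : (S σ).Normal := by
  rw [S_def]
  exact Subgroup.Normal.map (H := SUs σ) inferInstance (pr σ) (QuotientGroup.mk'_surjective _)

/-- The split BN pair of `PSU(3,q)`. -/
def spS (σ : F →+* F) [hσ : Fact (∀ x, σ (σ x) = x)] : Split (S σ) :=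
  (spP σ).res (S σ) U_le_S w_mem_S

/-- The root group of `PSU(3,q)`. -/
def XS (σ : F →+* F) [hσ : Fact (∀ x, σ (σ x) = x)] : Subgroup (S σ) := (XP σ).subgroupOf (S σ)

theorem XS_le : XS σ ≤ (spS σ).U := fun _ h => XP_le' h

/-- The diagonal elements of determinant one. -/
theorem dgS_mem (t : F) (ht : t ≠ 0) (hs : (σ t / t) * σ (σ t / t) = 1) :
    dg t (σ t / t) ht hs ∈ SUs σ := by
  rw [mem_SUs, mat_dg, Matrix.det_fin_three]
  have h0 : σ t ≠ 0 := (map_ne_zero σ).2 ht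
  simp
  field_simp

theorem dgS_rel {t : F} (ht : t ≠ 0) : (σ t / t) * σ (σ t / t) = 1 := by
  have h0 : σ t ≠ 0 := (map_ne_zero σ).2 ht
  rw [map_div₀, hσ.out]
  field_simp

/-- The character `τ` of the Borel subgroup. -/
def tau (σ : F →+* F) [hσ : Fact (∀ x, σ (σ x) = x)] : Bo σ →* F where
  toFun g := mat σ (g : GUJ σ) 0 0 * σ (mat σ (g : GUJ σ) 1 1)
  map_one' := by
    show mat σ (1 : GUJ σ) 0 0 * σ (mat σ (1 : GUJ σ) 1 1) = 1
    rw [mat_one]
    simp
  map_mul' g h := by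
    show mat σ ((g : GUJ σ) * h) 0 0 * σ (mat σ ((g : GUJ σ) * h) 1 1) = _
    obtain ⟨h1, h2, h3⟩ := h.2
    obtain ⟨g1, g2, g3⟩ := g.2
    rw [mul_entry, mul_entry, h1, h2, h3, g1]
    simp only [mul_zero, add_zero, zero_mul, zero_add, map_mul]
    ring

theorem tau_apply (g : Bo σ) : tau σ g = mat σ (g : GUJ σ) 0 0 * σ (mat σ (g : GUJ σ) 1 1) := rfl

/-- The character `τ` on the projective group. -/
theorem exists_tauP (σ : F →+* F) [hσ : Fact (∀ x, σ (σ x) = x)] :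
    ∃ f : (spP σ).B →* Fˣ, ∀ (b : GUJ σ) (_ : b ∈ Bo σ) (h : pr σ b ∈ (spP σ).B),
      (f ⟨pr σ b, h⟩ : F) = mat σ b 0 0 * σ (mat σ b 1 1) := by
  obtain ⟨f, hf⟩ := exists_liftHom (Sc σ) (Bo σ) (tau σ).toHomUnits (by
    rintro ⟨b, hb⟩ ⟨hbT, h1, h2⟩
    obtain ⟨t, s, ht, hs, rfl⟩ := exists_dg hbT
    apply Units.ext
    rw [MonoidHom.coe_toHomUnits, tau_apply]
    rw [mat_dg] at h1
    have h3 : t = s := by simpa using h1
    subst h3
    rw [mat_dg]
    exact hs)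
  refine ⟨f, fun b hb h => ?_⟩
  have := hf ⟨b, hb⟩ h
  exact (congrArg Units.val this).trans (by rw [MonoidHom.coe_toHomUnits, tau_apply])

/-- The linear characters of the Borel subgroup of `S`. -/
theorem exists_lin (lam : Fˣ →* ℂˣ) : ∃ f : (spS σ).B →* ℂˣ,
    (∀ b : (spS σ).B, (b : S σ) ∈ (spS σ).U → f b = 1) ∧
    ∀ (t s : F) (ht : t ≠ 0) (hs : s * σ s = 1)
      (h : pr σ (dg t s ht hs) ∈ S σ) (h' : (⟨_, h⟩ : S σ) ∈ (spS σ).B),
      f ⟨⟨_, h⟩, h'⟩ = lam (Units.mk0 (t * σ s) (mul_ne_zero ht ((map_ne_zero σ).2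
        (left_ne_zero_of_mul_eq_one hs)))) := by
  obtain ⟨f, hf⟩ := exists_tauP σ
  let incl : (spS σ).B →* (spP σ).B :=
    { toFun := fun b => ⟨((b : S σ) : PG σ), b.2⟩
      map_one' := rfl
      map_mul' := fun _ _ => rfl }
  refine ⟨lam.comp (f.comp incl), ?_, ?_⟩
  · rintro ⟨⟨b, hbS⟩, hbB⟩ hbU
    have hbU' : b ∈ (Un σ).map (pr σ) := hbU
    obtain ⟨u, hu, hub⟩ := hbU'
    have h1 : f ⟨b, hbB⟩ = 1 := by
      subst hub
      apply Units.ext
      refine (hf u hu.1 hbB).trans ?_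
      rw [hu.2.1, hu.2.2.1, map_one, mul_one, Units.val_one]
    show lam (f ⟨b, hbB⟩) = 1
    rw [h1, map_one]
  · intro t s ht hs h h'
    show lam (f ⟨pr σ (dg t s ht hs), h'⟩) = _
    congr 1
    apply Units.ext
    exact hf _ (dg_mem t s ht hs).1 h'

/-- Conjugation of `T_S` by `w`. -/
theorem w_conj_S (t s : F) (ht : t ≠ 0) (hs : s * σ s = 1) (h : pr σ (dg t s ht hs) ∈ S σ) :
    (((spS σ).w⁻¹ * ⟨_, h⟩ * (spS σ).w : S σ) : PG σ) =
      pr σ (dg (σ t)⁻¹ s (inv_ne_zero ((map_ne_zero σ).2 ht)) hs) := by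
  rw [← wel'_conj_dg t s ht hs]
  show (pr σ (wel' σ))⁻¹ * pr σ _ * pr σ (wel' σ) = _
  rw [← map_inv, ← map_mul, ← map_mul]

end general

section finite

variable {F : Type*} [Field F] [Fintype F] {q : ℕ} {σ : F →+* F} [hσ : Fact (∀ x, σ (σ x) = x)]

theorem card_US (hF : Fintype.card F = q ^ 2) (hs : ∀ x, σ x = x ^ q) :
    Nat.card (spS σ).U = q ^ 3 := by
  rw [← card_UP (σ := σ) hF hs]
  exact Nat.card_congr (Subgroup.subgroupOfEquivOfLe (U_le_S (σ := σ))).toEquiv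

theorem card_XS (hF : Fintype.card F = q ^ 2) (hs : ∀ x, σ x = x ^ q) :
    Nat.card (XS σ) = q := by
  rw [← card_XP (σ := σ) hF hs]
  exact Nat.card_congr (Subgroup.subgroupOfEquivOfLe (X_le_S (σ := σ))).toEquiv

theorem card_TS (hF : Fintype.card F = q ^ 2) (hs : ∀ x, σ x = x ^ q) :
    Nat.card (spS σ).T ∣ q ^ 2 - 1 := by
  rw [← card_TP (σ := σ) hF hs]
  exact Subgroup.card_comap_dvd_of_injective (spP σ).T (S σ).subtype (S σ).subtype_injective

/-- The order of `S` (up to a divisor). -/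
theorem card_S (hF : Fintype.card F = q ^ 2) (hs : ∀ x, σ x = x ^ q) :
    Nat.card (S σ) ∣ (q ^ 3 + 1) * (q ^ 3 * (q ^ 2 - 1)) := by
  have : Finite (PG σ) := inferInstance
  rw [(spS σ).card_G, (spS σ).card_B, card_US hF hs]
  exact Nat.mul_dvd_mul_left _ (Nat.mul_dvd_mul_left _ (card_TS hF hs))

/-- The root group is fused. -/
theorem fused (hF : Fintype.card F = q ^ 2) (hs : ∀ x, σ x = x ^ q) (x : S σ) (hx : x ∈ XS σ)
    (hx1 : x ≠ 1) (y : S σ) (hy : y ∈ XS σ) (hy1 : y ≠ 1) : ∃ g : S σ, g * x * g⁻¹ = y := by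
  obtain ⟨x, hxS⟩ := x
  obtain ⟨y, hyS⟩ := y
  have hx' : x ∈ (Ze σ).map (pr σ) := hx
  have hy' : y ∈ (Ze σ).map (pr σ) := hy
  obtain ⟨u, ⟨hu, hu0⟩, hux⟩ := hx'
  obtain ⟨v, ⟨hv, hv0⟩, hvy⟩ := hy'
  obtain ⟨a, b, h, rfl⟩ := exists_un hu
  obtain ⟨a', b', h', rfl⟩ := exists_un hv
  rw [mat_un] at hu0 hv0
  have ha : a = 0 := by simpa using hu0
  have ha' : a' = 0 := by simpa using hv0
  subst ha
  subst ha'
  have hone : ∀ h0 : (0 : F) + σ 0 + 0 * σ 0 = 0, un 0 0 h0 = (1 : GUJ σ) := by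
    intro h0
    apply mat_inj
    rw [mat_un, mat_one]
    ext i j
    fin_cases i <;> fin_cases j <;> simp
  have hb : b ≠ 0 := by
    rintro rfl
    apply hx1
    apply Subtype.ext
    show x = 1
    rw [← hux, hone, map_one]
  have hb' : b' ≠ 0 := by
    rintro rfl
    apply hy1
    apply Subtype.ext
    show y = 1
    rw [← hvy, hone, map_one]
  have e1 : σ b = -b := by
    have : b + σ b = 0 := by simpa using h
    linear_combination this
  have e2 : σ b' = -b' := by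
    have : b' + σ b' = 0 := by simpa using h'
    linear_combination this
  have hfix : (b' / b) ^ q = b' / b := by
    rw [← hs, map_div₀, e1, e2, neg_div_neg_eq]
  obtain ⟨t, ht, htn⟩ := exists_norm_eq_ne hF hfix (div_ne_zero hb' hb)
  rw [← hs] at htn
  have hrel := dgS_rel (σ := σ) ht
  refine ⟨⟨pr σ (dg t (σ t / t) ht hrel), _, dgS_mem t ht hrel, rfl⟩, ?_⟩
  apply Subtype.ext
  show pr σ (dg t (σ t / t) ht hrel) * x * (pr σ (dg t (σ t / t) ht hrel))⁻¹ = y
  rw [← hux, ← hvy, ← map_mul, ← map_inv, ← map_mul]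
  congr 1
  rw [dg_conj_un t (σ t / t) ht hrel 0 b h (conj_rel hrel h)]
  apply mat_inj
  rw [mat_un, mat_un, htn]
  have : b' / b * b = b' := by field_simp
  simp [this]

/-- The root group consists of commutators of the unipotent radical. -/
theorem exists_comm (hF : Fintype.card F = q ^ 2) (hs : ∀ x, σ x = x ^ q) {b : F}
    (h : b + σ b + 0 * σ 0 = 0) : ∃ u ∈ Un σ, ∃ v ∈ Un σ, un 0 b h * (v * u) = u * v := by
  -- an element of trace one
  obtain ⟨z, hz⟩ := exists_trace_eq hF (show (1 : F) ^ q = 1 from one_pow q)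
  rw [← hs] at hz
  have e1 : σ b = -b := by
    have : b + σ b = 0 := by simpa using h
    linear_combination this
  obtain ⟨b1, hb1⟩ := exists_snd (σ := σ) hF hs 1
  obtain ⟨b2, hb2⟩ := exists_snd (σ := σ) hF hs (b * z)
  refine ⟨un 1 b1 hb1, un_mem _ _ _, un (b * z) b2 hb2, un_mem _ _ _, ?_⟩
  apply mat_inj
  rw [mat_mul, mat_mul, mat_mul, mat_un, mat_un, mat_un]
  ext i j
  fin_cases i <;> fin_cases j <;>
    simp [Matrix.mul_apply, Fin.sum_univ_three, e1]
  · ring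
  · linear_combination (-b) * hz
  · ring

theorem hlin (hF : Fintype.card F = q ^ 2) (hs : ∀ x, σ x = x ^ q) (f : (spS σ).U →* ℂˣ)
    (x : (spS σ).U) (hx : (x : S σ) ∈ XS σ) : f x = 1 := by
  obtain ⟨⟨x, hxS⟩, hxU⟩ := x
  have hx' : x ∈ (Ze σ).map (pr σ) := hx
  obtain ⟨u, ⟨hu, hu0⟩, hux⟩ := hx'
  obtain ⟨a, b, h, rfl⟩ := exists_un hu
  rw [mat_un] at hu0
  have ha : a = 0 := by simpa using hu0
  subst ha
  obtain ⟨u, hu, v, hv, huv⟩ := exists_comm hF hs h
  have hu' : pr σ u ∈ S σ := U_le_S ⟨u, hu, rfl⟩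
  have hv' : pr σ v ∈ S σ := U_le_S ⟨v, hv, rfl⟩
  set U' : (spS σ).U := ⟨⟨pr σ u, hu'⟩, ⟨u, hu, rfl⟩⟩ with hU'
  set V' : (spS σ).U := ⟨⟨pr σ v, hv'⟩, ⟨v, hv, rfl⟩⟩ with hV'
  have h1 : (⟨⟨x, hxS⟩, hxU⟩ : (spS σ).U) * (V' * U') = U' * V' := by
    apply Subtype.ext
    apply Subtype.ext
    show x * (pr σ v * pr σ u) = pr σ u * pr σ v
    rw [← hux, ← map_mul, ← map_mul, ← map_mul, huv]
  have h2 := congrArg f h1
  rw [map_mul, map_mul, map_mul, mul_comm (f U')] at h2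
  exact mul_eq_right.1 h2

/-- A degree divisible by `p (q - 1)`. -/
theorem exists_degree (hF : Fintype.card F = q ^ 2) (hq : 3 ≤ q) (hs : ∀ x, σ x = x ^ q)
    {p k : ℕ} (hp : p.Prime) (hpk : q = p ^ k) :
    ∃ n ∈ charDegrees (S σ), p * (q - 1) ∣ n := by
  have : Finite (PG σ) := inferInstance
  have := Fintype.ofFinite (PG σ)
  have : Fact p.Prime := ⟨hp⟩
  obtain ⟨χ, hχ⟩ := exists_noFix (σ := σ) hF hq hs
  obtain ⟨η, hη⟩ := hχ.exists_res χ.2 (S σ) X_le_S
  have hη' : NoFix (XS σ) (η : S σ → ℂ) := hη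
  obtain ⟨n, -, hn⟩ := Characters.Core.isIrr_apply_one η.2
  refine ⟨n, mem_charDegrees.2 ⟨_, η.2, hn⟩, ?_⟩
  have h1 : q - 1 ∣ n := by
    have := hη'.dvd_degree η.2 (fused hF hs) hn
    rwa [card_XS hF hs] at this
  have h2 : p ∣ n := by
    refine hη'.prime_dvd η.2 XS_le (p := p) ?_ (hlin hF hs) hn
    refine IsPGroup.of_card (n := 3 * k) ?_
    rw [card_US hF hs, hpk]
    ring
  refine Nat.Coprime.mul_dvd_of_dvd_of_dvd ?_ h2 h1
  rw [hp.coprime_iff_not_dvd]
  intro h3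
  have hk : k ≠ 0 := by
    rintro rfl
    rw [pow_zero] at hpk
    omega
  have h4 : p ∣ q := hpk ▸ dvd_pow_self p hk
  have h5 : p ∣ 1 := by
    have := Nat.dvd_sub h4 h3
    have e : q - (q - 1) = 1 := by omega
    rwa [e] at this
  exact hp.one_lt.ne' (Nat.dvd_one.1 h5)

/-- The degree `q³ + 1`. -/
theorem exists_ps (hF : Fintype.card F = q ^ 2) (hq : 3 ≤ q) (hs : ∀ x, σ x = x ^ q) :
    q ^ 3 + 1 ∈ charDegrees (S σ) := by
  classical
  have : Finite (PG σ) := inferInstance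
  have := Fintype.ofFinite (PG σ)
  have := Fintype.ofFinite (S σ)
  -- a norm different from one
  obtain ⟨c, hc, hc0, hc1⟩ : ∃ c : F, c ^ q = c ∧ c ≠ 0 ∧ c ≠ 1 := by
    by_contra hcon
    push Not at hcon
    have h1 := card_fixed hF
    have h2 : Nat.card {x : F // x ^ q = x} ≤ 2 := by
      have : Function.Injective (fun x : {x : F // x ^ q = x} => decide (x.1 = 0)) := by
        rintro ⟨x, hx⟩ ⟨y, hy⟩ h
        apply Subtype.ext
        by_cases h0 : x = 0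
        · have h3 : y = 0 := by
            have : decide (x = 0) = decide (y = 0) := h
            simpa [h0] using this.symm
          show x = y
          rw [h0]; exact h3.symm
        · have h3 : y ≠ 0 := by
            have : decide (x = 0) = decide (y = 0) := h
            intro h4
            apply h0
            simpa [h4] using this
          show x = y
          rw [hcon x hx h0]
          exact (hcon y hy h3).symm
      have h4 := Nat.card_le_card_of_injective _ this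
      simpa using h4
    omega
  obtain ⟨t, ht, htn⟩ := exists_norm_eq_ne hF hc hc0
  rw [← hs] at htn
  obtain ⟨lam, -, hlam⟩ := OddOrderCharacters.PrimeTI.exists_hom_ne_one
    (G := Fˣ) ⟨⟨fun a b => mul_comm a b⟩⟩ ⊥
    (w := Units.mk0 c hc0) (by
      rw [Subgroup.mem_bot]
      intro h
      exact hc1 (congrArg Units.val h))
  obtain ⟨f, hfU, hf⟩ := exists_lin (σ := σ) lam
  have hrel := dgS_rel (σ := σ) ht
  have h0 : σ t ≠ 0 := (map_ne_zero σ).2 ht
  have hmem : pr σ (dg t (σ t / t) ht hrel) ∈ S σ := ⟨_, dgS_mem t ht hrel, rfl⟩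
  have hT : (⟨_, hmem⟩ : S σ) ∈ (spS σ).T := ⟨_, dg_mem _ _ _ _, rfl⟩
  have hirr := (spS σ).isIrr_ps f ⟨⟨_, hmem⟩, hT, by
    have e1 := hf t (σ t / t) ht hrel hmem ((spS σ).TB hT)
    have e2 : ((spS σ).w⁻¹ * ⟨_, hmem⟩ * (spS σ).w : S σ) =
        ⟨pr σ (dg (σ t)⁻¹ (σ t / t) (inv_ne_zero h0) hrel), by
          rw [← w_conj_S t (σ t / t) ht hrel hmem]
          exact ((spS σ).w⁻¹ * ⟨_, hmem⟩ * (spS σ).w).2⟩ :=
      Subtype.ext (w_conj_S t (σ t / t) ht hrel hmem)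
    have e3 : f ⟨(spS σ).w⁻¹ * ⟨_, hmem⟩ * (spS σ).w, (spS σ).TB ((spS σ).wT _ hT)⟩ =
        lam (Units.mk0 ((σ t)⁻¹ * σ (σ t / t)) (mul_ne_zero (inv_ne_zero h0) ((map_ne_zero σ).2
          (left_ne_zero_of_mul_eq_one hrel)))) := by
      rw [← hf (σ t)⁻¹ (σ t / t) (inv_ne_zero h0) hrel (by
          rw [← w_conj_S t (σ t / t) ht hrel hmem]
          exact ((spS σ).w⁻¹ * ⟨_, hmem⟩ * (spS σ).w).2) ⟨_, (dg_mem _ _ _ _).1, rfl⟩]
      congr 1
      exact Subtype.ext e2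
    rw [e1, e3]
    intro h
    apply hlam
    have h1 : Units.mk0 c hc0 = Units.mk0 (t * σ (σ t / t)) (mul_ne_zero ht ((map_ne_zero σ).2
        (left_ne_zero_of_mul_eq_one hrel))) * (Units.mk0 ((σ t)⁻¹ * σ (σ t / t))
        (mul_ne_zero (inv_ne_zero h0) ((map_ne_zero σ).2 (left_ne_zero_of_mul_eq_one hrel))))⁻¹ := by
      apply Units.ext
      rw [Units.val_mul, Units.val_inv_eq_inv_val, Units.val_mk0, Units.val_mk0, Units.val_mk0,
        map_div₀, hσ.out, ← htn]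
      field_simp
    rw [h1, map_mul, map_inv, h, mul_inv_cancel]⟩
  refine mem_charDegrees.2 ⟨_, hirr, ?_⟩
  rw [(spS σ).ps_one, card_US hF hs]
  push_cast
  ring

/-- **Itô-Michler for `PSU(3,q)`** (inner form). -/
theorem im_S (hF : Fintype.card F = q ^ 2) (hq : 3 ≤ q) (hs : ∀ x, σ x = x ^ q) {r : ℕ}
    (hr : r.Prime) (hd : r ∣ Nat.card (S σ)) : H33.IM r (S σ) := by
  obtain ⟨p, k, hp, -, hpk, hk⟩ := exists_prime_pow hF
  obtain ⟨n, hn, hn1⟩ := exists_degree (σ := σ) hF hq hs hp hpk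
  have h1 := exists_ps (σ := σ) hF hq hs
  have im_of : ∀ {n : ℕ}, n ∈ charDegrees (S σ) → r ∣ n → H33.IM r (S σ) := by
    rintro n ⟨χ, hχ⟩ h
    refine ⟨χ, ?_⟩
    rw [← hχ] at h
    exact h
  have hd' := hd.trans (card_S (σ := σ) hF hs)
  rcases hr.dvd_mul.1 hd' with h | h
  · exact im_of h1 h
  rcases hr.dvd_mul.1 h with h | h
  · refine im_of hn (dvd_trans ?_ hn1)
    have h2 : r ∣ p := by
      rw [hpk] at h
      exact hr.dvd_of_dvd_pow (hr.dvd_of_dvd_pow h)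
    exact h2.mul_right _
  · have h2 : q ^ 2 - 1 = (q + 1) * (q - 1) := by
      have := Nat.sq_sub_sq q 1
      simpa using this
    rw [h2] at h
    rcases hr.dvd_mul.1 h with h | h
    · refine im_of h1 (h.trans ?_)
      refine ⟨q ^ 2 - q + 1, ?_⟩
      have h3 : q ≤ q ^ 2 := by nlinarith
      zify [h3]
      ring
    · exact im_of hn ((h.mul_left p).trans hn1)

end finite

end Cfsg.Agent.H664.R1.U3
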